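import Groth.Agent.FRelLib.Coh
import Groth.Agent.FComplLib.RpushQCT
import Groth.Agent.FComplLib.Ind5

/-!
# Derived direct images along proper morphisms of formal schemes
-/

set_option autoImplicit false
set_option linter.style.haveILetI false
set_option linter.unusedSectionVars false
set_option backward.isDefEq.respectTransparency false
set_option backward.isDefEq.respectTransparency.types false
set_option maxHeartbeats 2000000

universe u

open CategoryTheory CategoryTheory.Limits AlgebraicGeometry TopologicalSpace Opposite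
attribute [local instance] HasDerivedCategory.standard

noncomputable section

namespace Groth.Agent.FRel

open Groth.Agent.FCompl Groth.Agent.FProper

variable {𝔛 𝔜 : FSch.Sys.{u}} {h : 𝔛.IsFormal} {h' : 𝔜.IsFormal}

/-- Coherent modules form a weak Serre subcategory. -/
theorem isWeakSerre_coh (hL : 𝔛.IsLocNoethFormal) :
    WSerre.IsWeakSerre (fun M : FSch.ModF 𝔛 h => FSch.IsCohF 𝔛 h M : ObjectProperty (FSch.ModF 𝔛 h)) where
  exists_zero := ⟨_, isZero_empty, isCohF_sigma hL (fun a : PEmpty.{u + 1} => (a.elim : FSch.ModF 𝔛 h))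
    fun a => a.elim⟩
  kernels_le := by
    intro _ ⟨g, k, hk, hg⟩
    exact (SheafOfModules.isFinitePresentation (ModSite.ringSh (𝔛.Osh h))).prop_of_iso
      (IsLimit.conePointUniqueUpToIso (kernelIsKernel g) hk) (coh_kernel hL g hg.1 hg.2)
  cokernels_le := by
    intro _ ⟨g, k, hk, hg⟩
    exact (SheafOfModules.isFinitePresentation (ModSite.ringSh (𝔛.Osh h))).prop_of_iso
      (IsColimit.coconePointUniqueUpToIso (cokernelIsCokernel g) hk) (coh_cokernel hL g hg.1 hg.2)
  prop_X₂_of_shortExact {S} hS h₁ h₃ := by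
    haveI := hS.epi_g
    exact isCohF_extension hL S.g ((SheafOfModules.isFinitePresentation (ModSite.ringSh (𝔛.Osh h))).prop_of_iso
      (show S.X₁ ≅ kernel S.g from hS.fIsKernel.conePointUniqueUpToIso (limit.isLimit _)) h₁) h₃

/-- Filtered colimits of coherent modules form a weak Serre subcategory. -/
theorem isWeakSerre_ind (hL : 𝔛.IsLocNoethFormal) [CompactSpace (𝔛.X 0)] :
    WSerre.IsWeakSerre (IsInd (h := h)) where
  exists_zero := ⟨_, isZero_empty, ObjectProperty.le_ind.{u} _ _ (isCohF_sigma hL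
    (fun a : PEmpty.{u + 1} => (a.elim : FSch.ModF 𝔛 h)) fun a => a.elim)⟩
  kernels_le := by
    intro _ ⟨g, k, hk, hg⟩
    exact (IsInd (h := h)).prop_of_iso (IsLimit.conePointUniqueUpToIso (kernelIsKernel g) hk)
      (isInd_kernel hL g hg.1 hg.2)
  cokernels_le := by
    intro _ ⟨g, k, hk, hg⟩
    exact (IsInd (h := h)).prop_of_iso (IsColimit.coconePointUniqueUpToIso (cokernelIsCokernel g) hk)
      (isInd_cokernel hL g hg.1 hg.2)
  prop_X₂_of_shortExact {S} hS h₁ h₃ := by
    haveI := hS.epi_g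
    exact isInd_extension hL S.g ((IsInd (h := h)).prop_of_iso
      (show S.X₁ ≅ kernel S.g from hS.fIsKernel.conePointUniqueUpToIso (limit.isLimit _)) h₁) h₃

variable [CompactSpace (𝔛.X 0)] [CompactSpace (𝔜.X 0)] (f : 𝔛 ⟶ 𝔜) (hf : FSch.IsProperHom f)
  (hL : 𝔛.IsLocNoethFormal) (hL' : 𝔜.IsLocNoethFormal)

include hf hL hL' in
/-- Derived direct images keep coherent homology. -/
theorem coh_rpushD [SiteCmp.HasRpushD (FSch.homMor f h h')] (K : DerivedCategory (FSch.ModF 𝔛 h))
    (hK : ∀ i : ℤ, FSch.IsCohF 𝔛 h (SiteCmp.HMod K i)) (i : ℤ) :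
    FSch.IsCohF 𝔜 h' (SiteCmp.HMod ((SiteCmp.RpushD (FSch.homMor f h h')).obj K) i) := by
  haveI := isWeakSerre_coh (h := h) hL
  haveI := isWeakSerre_coh (h := h') hL'
  haveI : IsGrothendieckAbelian.{u} (FSch.ModF 𝔛 h) := ModTensor.isGrothendieckAbelian_mod (𝔛.Osh h)
  haveI : HasInjectiveResolutions (FSch.ModF 𝔛 h) := inferInstance
  exact cohIn_rpushD_aux f hL hL' (fun M : FSch.ModF 𝔛 h => FSch.IsCohF 𝔛 h M)
    (fun M : FSch.ModF 𝔜 h' => FSch.IsCohF 𝔜 h' M) (fun _ hF => affQC_of_coh hL hF) (fun _ hF => affQC_of_coh hL' hF)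
    (fun F hF p => isCohF_of_affine _ fun V hV => hasRels_rpushF (h := h) (h' := h') f hf hL hL' hF p hV) K hK i

include hf hL hL' in
/-- Derived direct images keep lim-coherent homology. -/
theorem ind_rpushD [SiteCmp.HasRpushD (FSch.homMor f h h')] (K : DerivedCategory (FSch.ModF 𝔛 h))
    (hK : ∀ i : ℤ, IsInd (SiteCmp.HMod K i)) (i : ℤ) :
    IsInd (SiteCmp.HMod ((SiteCmp.RpushD (FSch.homMor f h h')).obj K) i) := by
  haveI := isWeakSerre_ind (h := h) hL
  haveI := isWeakSerre_ind (h := h') hL'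
  haveI : IsGrothendieckAbelian.{u} (FSch.ModF 𝔛 h) := ModTensor.isGrothendieckAbelian_mod (𝔛.Osh h)
  haveI : HasInjectiveResolutions (FSch.ModF 𝔛 h) := inferInstance
  refine cohIn_rpushD_aux f hL hL' IsInd IsInd (fun _ hF => affQC_of_ind hL hF) (fun _ hF => affQC_of_ind hL' hF)
    (fun F hF p => ?_) K hK i
  obtain ⟨J, _, _, P, hP⟩ := hF
  haveI := preservesColimit_rpushF (h := h) (h' := h') f hL p P.diag
  exact ⟨J, inferInstance, inferInstance, ⟨P.diag ⋙ FSch.RpushF f h h' p,
    Functor.whiskerRight P.ι (FSch.RpushF f h h' p) ≫ ((FSch.RpushF f h h' p).constComp _ _).hom,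
    (isColimitOfPreserves (FSch.RpushF f h h' p) P.isColimit).ofIsoColimit (Cocone.ext (Iso.refl _) (fun j => by simp))⟩,
    fun j => isCohF_of_affine _ fun V hV => hasRels_rpushF (h := h) (h' := h') f hf hL hL' (hP j) p hV⟩

end Groth.Agent.FRel
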