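import Groth.Agent.FRelLib.AffBase
import Groth.Agent.FProperLib.Main
import Groth.Agent.FProperLib.CochGood

/-!
# The filtered Čech complex over an affine open of the base
-/

set_option autoImplicit false
set_option linter.style.haveILetI false
set_option linter.unusedSectionVars false
set_option backward.isDefEq.respectTransparency false
set_option backward.isDefEq.respectTransparency.types false
set_option maxHeartbeats 1000000

universe u

open CategoryTheory CategoryTheory.Limits AlgebraicGeometry TopologicalSpace Opposite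
open Groth.Agent.CohBase

noncomputable section

namespace Groth.Agent.FRel

open Groth.Agent.FCompl Groth.Agent.FProper

/-- Cochains in a step of the filtration. -/
def CFW {A : Type u} [CommRing A] {𝔛 : FSch.Sys.{u}} {h : 𝔛.IsFormal} (D : Cv A h) (𝔉 : FSch.ModF 𝔛 h) (q k : ℕ) :
    Submodule A (CW D q 𝔉) := LinearMap.ker (CWmap D q (prj' 𝔉 k))

lemma mem_CFW {A : Type u} [CommRing A] {𝔛 : FSch.Sys.{u}} {h : 𝔛.IsFormal} (D : Cv A h) {𝔉 : FSch.ModF 𝔛 h}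
    {q k : ℕ} {z : CW D q 𝔉} :
    z ∈ CFW D 𝔉 q k ↔ ∀ i, ((prj' 𝔉 k).val.app (op (inter D.U i))).hom (cpW D z i) = 0 :=
  ⟨fun hz i => (cpW_CWmap D (prj' 𝔉 k) z i).symm.trans
      ((congrArg (fun w => cpW D w i) (show CWmap D q (prj' 𝔉 k) z = 0 from hz)).trans (cpW_zero D i)),
    fun H => cpW_ext D H⟩

lemma mem_smul_top_transport {R R' M M' : Type*} [CommRing R] [CommRing R'] [AddCommGroup M] [Module R M]
    [AddCommGroup M'] [Module R' M'] (r : R →+* R') (e : M →+ M') (he : ∀ a x, e (a • x) = r a • e x)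
    (I : Ideal R) {x : M} (hx : x ∈ I • (⊤ : Submodule R M)) : e x ∈ I.map r • (⊤ : Submodule R' M') := by
  induction hx using Submodule.smul_induction_on' with
  | smul a ha y _ => exact he a y ▸ Submodule.smul_mem_smul (Ideal.mem_map_of_mem r ha) trivial
  | add y _ z _ hy hz => exact (map_add e y z).symm ▸ add_mem hy hz

variable {𝔛 𝔜 : FSch.Sys.{u}} {h : 𝔛.IsFormal}

section Restrict

variable (W : (𝔛.X 0).Opens) {ι : Type u} (U' : ι → ((𝔛r 𝔛 h W).X 0).Opens)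

/-- The family in the whole space. -/
abbrev imgU (i : ι) : (𝔛.X 0).Opens := img 𝔛 h W (U' i)

lemma inter_imgU_le {q : ℕ} (i : Fin (q + 1) → ι) : inter (imgU W U') i ≤ img 𝔛 h W (inter U' i) := by
  intro x hx
  obtain ⟨z, -, rfl⟩ := CohBase.inter_le (imgU W U') i 0 hx
  refine ⟨z, ?_, rfl⟩
  refine (le_iInf fun a => ?_ : (jo 𝔛 h W) ⁻¹ᵁ inter (imgU W U') i ≤ inter U' i) hx
  exact (Scheme.Hom.preimage_mono (jo 𝔛 h W) (CohBase.inter_le (imgU W U') i a)).trans (preimage_img 𝔛 h W _).le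

lemma img_inter_le {q : ℕ} (i : Fin (q + 1) → ι) : img 𝔛 h W (inter U' i) ≤ inter (imgU W U') i :=
  le_iInf fun a => img_mono 𝔛 h W (CohBase.inter_le U' i a)

lemma affine_inter_imgU (haff : ∀ (m : ℕ) (i : Fin (m + 1) → ι), IsAffineOpen (inter U' i)) (m : ℕ)
    (i : Fin (m + 1) → ι) : IsAffineOpen (inter (imgU W U') i) := by
  rw [le_antisymm (inter_imgU_le W U' i) (img_inter_le W U' i)]
  exact (haff m i).image_of_isOpenImmersion (jo 𝔛 h W)

lemma prj'_rsec_iff (hL : 𝔛.IsLocNoethFormal) {𝔉 : FSch.ModF 𝔛 h} (h𝔉 : FSch.IsCohF 𝔛 h 𝔉)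
    {U : ((𝔛r 𝔛 h W).X 0).Opens} (hU : IsAffineOpen U) (k : ℕ) (x : 𝔉.val.obj (op (img 𝔛 h W U))) :
    ((prj' ((Rst 𝔛 h W).obj 𝔉) k).val.app (op U)).hom (rsec W 𝔉 U x) = 0 ↔
      ((prj' 𝔉 k).val.app (op (img 𝔛 h W U))).hom x = 0 := by
  rw [prj'_eq_zero_iff ((S13342.result 𝔛 h W).2.1 hL) (isCohF_Rst W hL h𝔉) hU,
    prj'_eq_zero_iff hL h𝔉 (hU.image_of_isOpenImmersion (jo 𝔛 h W))]
  constructor
  · intro hx
    have h1 := mem_smul_top_transport (jE 𝔛 h W U).symm.toRingHom (rsec W 𝔉 U).symm.toAddMonoidHom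
      (fun _ _ => rfl) _ hx
    rw [← II_jE 𝔛 h W U, ← Ideal.map_pow, Ideal.map_map] at h1
    rw [show (jE 𝔛 h W U).symm.toRingHom.comp (jE 𝔛 h W U).toRingHom = RingHom.id _ from
      (jE 𝔛 h W U).symm_toRingHom_comp_toRingHom, Ideal.map_id] at h1
    exact h1
  · intro hx
    have h1 := mem_smul_top_transport (jE 𝔛 h W U).toRingHom (rsec W 𝔉 U).toAddMonoidHom
      (fun a y => rsec_smul W 𝔉 U a y) _ hx
    rw [Ideal.map_pow, II_jE] at h1
    exact h1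

end Restrict

variable {h' : 𝔜.IsFormal} (f : 𝔛 ⟶ 𝔜) {V : (𝔜.X 0).Opens} (hL' : 𝔜.IsLocNoethFormal) (hV : IsAffineOpen V)
  {ι : Type u} (U' : ι → ((𝔛r 𝔛 h (preV f V)).X 0).Opens)

variable (h h') in
/-- The covering datum of the images. -/
abbrev cvI : Cv (OR 𝔜 h' V) h := cvV h h' f V (imgU (preV f V) U') fun _ => img_le h f _

/-- The action on the restriction. -/
abbrev ψr : OR 𝔜 h' V →+* DerComp.GSec ((𝔛r 𝔛 h (preV f V)).Osh (hr 𝔛 h (preV f V))) :=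
  ψ (II 𝔜 h' V) (fV h h' f hL' hV) (hr 𝔛 h (preV f V))

/-- Cochains on the restriction. -/
def tC (q : ℕ) (M : FSch.ModF 𝔛 h) :
    CW (cvI h h' f U') q M ≃+ CA (ψr (h := h) (h' := h') f hL' hV) U' q ((Rst 𝔛 h (preV f V)).obj M) where
  toFun z := show CC U' (TS ((Rst 𝔛 h (preV f V)).obj M)).obj q from fun i =>
    rsec (preV f V) M (inter U' i) (res (TS M).obj (img_inter_le (preV f V) U' i) (cpW (cvI h h' f U') z i))
  invFun w := mkW (cvI h h' f U') fun i =>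
    res (TS M).obj (inter_imgU_le (preV f V) U' i) ((rsec (preV f V) M (inter U' i)).symm
      (cpt (ψr (h := h) (h' := h') f hL' hV) U' w i))
  left_inv z := cpW_ext _ fun i => by
    show res (TS M).obj _ (res (TS M).obj _ _) = _
    rw [res_res, res_self]
  right_inv w := cpt_ext _ U' fun i => by
    show res (TS M).obj _ (res (TS M).obj _ _) = _
    rw [res_res]
    exact res_self _ _ _
  map_add' z w := cpt_ext _ U' fun i => map_add (res (TS M).obj (img_inter_le (preV f V) U' i)) _ _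

lemma cpt_tC {q : ℕ} {M : FSch.ModF 𝔛 h} (z : CW (cvI h h' f U') q M) (i : Fin (q + 1) → ι) :
    cpt (ψr (h := h) (h' := h') f hL' hV) U' (tC f hL' hV U' q M z) i =
      rsec (preV f V) M (inter U' i) (res (TS M).obj (img_inter_le (preV f V) U' i) (cpW (cvI h h' f U') z i)) :=
  rfl

lemma tC_smul {q : ℕ} {M : FSch.ModF 𝔛 h} (a : OR 𝔜 h' V) (z : CW (cvI h h' f U') q M) :
    tC f hL' hV U' q M (a • z) = a • tC f hL' hV U' q M z := cpt_ext _ U' fun i => by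
  rw [cpt_smul, cpt_tC, cpt_tC, cpW_smul]
  refine (congrArg (rsec (preV f V) M (inter U' i))
    (res_smul_act (cvI h h' f U') ((cvI h h' f U').inter_le i) (img_inter_le (preV f V) U' i) a _)).trans ?_
  refine (rsec_smul (preV f V) M (inter U' i) _ _).trans ?_
  rw [ψ_val, ψU_fV]
  rfl

lemma tC_dW {q : ℕ} {M : FSch.ModF 𝔛 h} (z : CW (cvI h h' f U') q M) :
    tC f hL' hV U' (q + 1) M (dW (cvI h h' f U') q M z) =
      dA (ψr (h := h) (h' := h') f hL' hV) U' q _ (tC f hL' hV U' q M z) := cpt_ext _ U' fun i => by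
  show rsec (preV f V) M (inter U' i) (res (TS M).obj (img_inter_le (preV f V) U' i)
      (cdiff (imgU (preV f V) U') (TS M).obj q (show CC (imgU (preV f V) U') (TS M).obj q from z) i)) =
    cdiff U' (TS ((Rst 𝔛 h (preV f V)).obj M)).obj q
      (show CC U' (TS ((Rst 𝔛 h (preV f V)).obj M)).obj q from tC f hL' hV U' q M z) i
  simp only [cdiff_apply, map_sum, map_zsmul]
  refine Finset.sum_congr rfl fun j _ => ?_
  refine congrArg (fun x => (-1 : ℤ) ^ (j : ℕ) • x) ?_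
  rw [res_res]
  exact ((res_res (TS M).obj (img_inter_le (preV f V) U' (i ∘ j.succAbove))
    (img_mono 𝔛 h (preV f V) (inter_comp_le U' i j.succAbove)) _)).symm

lemma tC_mem_CF (hL : 𝔛.IsLocNoethFormal) {𝔉 : FSch.ModF 𝔛 h} (h𝔉 : FSch.IsCohF 𝔛 h 𝔉)
    (haff : ∀ (m : ℕ) (i : Fin (m + 1) → ι), IsAffineOpen (inter U' i)) {q k : ℕ} (z : CW (cvI h h' f U') q 𝔉) :
    tC f hL' hV U' q 𝔉 z ∈ CF (ψr (h := h) (h' := h') f hL' hV) U' ((Rst 𝔛 h (preV f V)).obj 𝔉) q k ↔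
      z ∈ CFW (cvI h h' f U') 𝔉 q k := by
  rw [FProper.mem_CF, mem_CFW]
  refine forall_congr' fun i => ?_
  rw [cpt_tC, prj'_rsec_iff (preV f V) hL h𝔉 (haff q i)]
  have key : ((prj' 𝔉 k).val.app (op (img 𝔛 h (preV f V) (inter U' i)))).hom
      (res (TS 𝔉).obj (img_inter_le (preV f V) U' i) (cpW (cvI h h' f U') z i)) =
      res (TS (lvl 𝔉 (k - 1))).obj (img_inter_le (preV f V) U' i)
        (((prj' 𝔉 k).val.app (op (inter (imgU (preV f V) U') i))).hom (cpW (cvI h h' f U') z i)) :=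
    (res_map ((SheafOfModules.toSheaf (ModSite.ringSh (𝔛.Osh h))).map (prj' 𝔉 k)).hom _ _).symm
  rw [key]
  refine ⟨fun e => ?_, fun e => (congrArg _ e).trans (map_zero _)⟩
  have e1 := congrArg (res (TS (lvl 𝔉 (k - 1))).obj (inter_imgU_le (preV f V) U' i)) e
  rw [map_zero, res_res, res_self] at e1
  exact e1

/-- The bound and the generation of deep cocycles, on cochains over the preimage of an affine open. -/
structure Deep {A : Type u} [CommRing A] (D : Cv A h) (𝔉 : FSch.ModF 𝔛 h) (J : Ideal A) (q : ℕ) : Prop where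
  bound : ∃ c, ∀ (k : ℕ) (b : CW D q 𝔉), dW D q 𝔉 b ∈ CFW D 𝔉 (q + 1) k →
    ∃ b' ∈ CFW D 𝔉 q (k - c), dW D q 𝔉 b' = dW D q 𝔉 b
  good : ∃ N, ∀ k, N ≤ k → ∀ z ∈ CFW D 𝔉 q (k + 1), dW D q 𝔉 z = 0 →
    ∃ (s : ℕ) (a : Fin s → A) (w : Fin s → CW D q 𝔉), (∀ j, a j ∈ J) ∧
      (∀ j, w j ∈ CFW D 𝔉 q k ∧ dW D q 𝔉 (w j) = 0) ∧ z - ∑ j, a j • w j ∈ bdW D q 𝔉
  smul_mem : ∀ k, ∀ a ∈ J, ∀ z ∈ CFW D 𝔉 q k, a • z ∈ CFW D 𝔉 q (k + 1)

variable (h h') in
/-- A covering over an affine open of the base with the bound and the generation. -/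
theorem exists_deep (hL : 𝔛.IsLocNoethFormal) (hf : FSch.IsProperHom f) (hV : IsAffineOpen V)
    (hL' : 𝔜.IsLocNoethFormal) {𝔉 : FSch.ModF 𝔛 h} (h𝔉 : FSch.IsCohF 𝔛 h 𝔉) :
    ∃ (ι : Type u) (_ : Finite ι) (U : ι → (𝔛.X 0).Opens) (hle : ∀ i, U i ≤ preV f V),
      preV f V ≤ iSup U ∧ (∀ (m : ℕ) (i : Fin (m + 1) → ι), IsAffineOpen (inter U i)) ∧
      ∀ q, Deep (cvV h h' f V U hle) 𝔉 (II 𝔜 h' V) q := by
  classical
  haveI := FCompl.noetherian (h := h') hL' hV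
  have hf' := isProperHom_fV h h' f hL' hV hf
  have h𝔜 := isLocNoeth_spf h' hL' hV
  have hLr := (S13342.result 𝔛 h (preV f V)).2.1 hL
  have h𝔉r := isCohF_Rst (preV f V) hL h𝔉
  obtain ⟨ι, hι, U', hcov, haff⟩ := exists_cover hf'
  haveI := hι
  refine ⟨ι, hι, imgU (preV f V) U', fun _ => img_le h f _, ?_, affine_inter_imgU (preV f V) U' haff, fun q => ?_⟩
  · intro x hx
    have hx0 : x ∈ 𝔛.lvU h 0 (preV f V) := (SetLike.ext_iff.1 (toX_lvU (n := 0) (h := h) (preV f V)) x).2 hx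
    obtain ⟨i, hi⟩ := Opens.mem_iSup.1 (hcov (x := (⟨x, hx0⟩ : (𝔛r 𝔛 h (preV f V)).X 0)) trivial)
    exact Opens.mem_iSup.2 ⟨i, ⟨_, hi, rfl⟩⟩
  let t := fun q => tC (h := h) (h' := h') f hL' hV U' q 𝔉
  have tmem : ∀ q k z, t q z ∈ CF (ψr (h := h) (h' := h') f hL' hV) U' ((Rst 𝔛 h (preV f V)).obj 𝔉) q k ↔
      z ∈ CFW (cvI h h' f U') 𝔉 q k := fun q k z => tC_mem_CF f hL' hV U' hL h𝔉 haff z
  have tsymm : ∀ q k w, w ∈ CF (ψr (h := h) (h' := h') f hL' hV) U' ((Rst 𝔛 h (preV f V)).obj 𝔉) q k →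
      (t q).symm w ∈ CFW (cvI h h' f U') 𝔉 q k := fun q k w hw =>
    (tmem q k _).1 (by rwa [AddEquiv.apply_symm_apply])
  have tsmul : ∀ q (a : OR 𝔜 h' V) z, t q (a • z) = a • t q z := fun q a z => tC_smul f hL' hV U' a z
  have td : ∀ q z, t (q + 1) (dW (cvI h h' f U') q 𝔉 z) = dA (ψr (h := h) (h' := h') f hL' hV) U' q _ (t q z) :=
    fun q z => tC_dW f hL' hV U' z
  refine ⟨?_, ?_, ?_⟩
  · obtain ⟨c, hc⟩ := exists_bound (II 𝔜 h' V) (fV h h' f hL' hV) U' hLr h𝔉r haff hcov h𝔜 hf' q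
    refine ⟨c, fun k b hb => ?_⟩
    obtain ⟨b', hb', hdb'⟩ := hc k (t q b) (by rw [← td]; exact (tmem _ _ _).2 hb)
    refine ⟨(t q).symm b', tsymm _ _ _ hb', (t (q + 1)).injective ?_⟩
    rw [td, td, AddEquiv.apply_symm_apply]
    exact hdb'
  · obtain ⟨s, a, hspan⟩ := Submodule.fg_iff_exists_fin_generating_family.1
      (IsNoetherian.noetherian (II 𝔜 h' V))
    have ha : ∀ j, a j ∈ II 𝔜 h' V := fun j => hspan ▸ Submodule.subset_span ⟨j, rfl⟩
    cases q with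
    | zero =>
      obtain ⟨N, hN⟩ := exists_good_zero (II 𝔜 h' V) (fV h h' f hL' hV) U' hLr h𝔉r haff hcov a ha hspan h𝔜 hf'
      refine ⟨N, fun k hk z hz hdz => ?_⟩
      obtain ⟨w, hw, hsum⟩ := hN k hk (t 0 z) ((tmem _ _ _).2 hz) (by rw [← td, hdz, map_zero])
      refine ⟨s, a, fun j => (t 0).symm (w j), ha, fun j => ⟨tsymm _ _ _ (hw j).1, (t 1).injective ?_⟩, ?_⟩
      · rw [td, AddEquiv.apply_symm_apply, map_zero]
        exact (hw j).2
      · refine (Submodule.mem_bot _).2 ((t 0).injective ?_)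
        rw [map_sub, map_sum, map_zero, sub_eq_zero, hsum]
        exact Finset.sum_congr rfl fun j _ => by rw [tsmul, AddEquiv.apply_symm_apply]
    | succ r =>
      obtain ⟨N, hN⟩ := exists_good_succ (II 𝔜 h' V) (fV h h' f hL' hV) U' hLr h𝔉r haff hcov a ha hspan h𝔜 hf' r
      refine ⟨N, fun k hk z hz hdz => ?_⟩
      obtain ⟨w, hw, b, hsum⟩ := hN k hk (t (r + 1) z) ((tmem _ _ _).2 hz) (by rw [← td, hdz, map_zero])
      refine ⟨s, a, fun j => (t (r + 1)).symm (w j), ha,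
        fun j => ⟨tsymm _ _ _ (hw j).1, (t (r + 1 + 1)).injective ?_⟩, (t r).symm b, (t (r + 1)).injective ?_⟩
      · rw [td, AddEquiv.apply_symm_apply, map_zero]
        exact (hw j).2
      · rw [td, AddEquiv.apply_symm_apply, map_sub, map_sum, ← hsum]
        exact congrArg (t (r + 1) z - ·) (Finset.sum_congr rfl fun j _ => by rw [tsmul, AddEquiv.apply_symm_apply])
  · intro k a ha z hz
    rw [← tmem, tsmul]
    exact smul_mem_CF (II 𝔜 h' V) (fV h h' f hL' hV) U' hLr h𝔉r haff hf'.1 q k ha ((tmem _ _ _).2 hz)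

end Groth.Agent.FRel
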