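import Groth.Agent.FRelLib.Sys

/-!
# Coherence of higher direct images
-/

set_option autoImplicit false
set_option linter.style.haveILetI false
set_option linter.unusedSectionVars false
set_option backward.isDefEq.respectTransparency false
set_option backward.isDefEq.respectTransparency.types false
set_option maxHeartbeats 1000000

universe u

open CategoryTheory CategoryTheory.Limits AlgebraicGeometry TopologicalSpace Opposite
open Groth.Agent.CohBase

noncomputable section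

namespace Groth.Agent.FRel

open Groth.Agent.FCompl Groth.Agent.FProper

variable {𝔛 𝔜 : FSch.Sys.{u}} {h : 𝔛.IsFormal} {h' : 𝔜.IsFormal} [HasInjectiveResolutions (FSch.ModF 𝔛 h)]
  (f : 𝔛 ⟶ 𝔜) (hf : FSch.IsProperHom f) (hL : 𝔛.IsLocNoethFormal) (hL' : 𝔜.IsLocNoethFormal)
  {𝔉 : FSch.ModF 𝔛 h} (h𝔉 : FSch.IsCohF 𝔛 h 𝔉) (q : ℕ) {V V' : (𝔜.X 0).Opens} (hV : IsAffineOpen V)
  (hV' : IsAffineOpen V') (hle : V' ≤ V) {I : Type u} [Fintype I]
  (s : I → ((FSch.RpushF f h h' q).obj 𝔉).val.obj (op V))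
  (hs : Submodule.span (OR 𝔜 h' V) (Set.range s) = ⊤)

include hf hL hL' h𝔉 hV hV' hs in
/-- Generators over an affine open generate over a smaller affine open. -/
theorem span_res_sections :
    Submodule.span (OR 𝔜 h' V') (Set.range fun i =>
      FPLocal.mres ((FSch.RpushF f h h' q).obj 𝔉) (homOfLE hle).op (s i)) = ⊤ := by
  haveI := FCompl.noetherian (h := h') hL' hV'
  obtain ⟨hfin, hsep⟩ := finite_sections (h' := h') f hf hL hL' h𝔉 q hV'
  haveI := hfin
  refine top_le_iff.1 (Submodule.le_of_le_smul_of_le_jacobson_bot (I := II 𝔜 h' V')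
    (Module.Finite.fg_top) (II_le_jacobson hL' hV') fun x _ => ?_)
  obtain ⟨m, hm⟩ := hsep 1
  obtain ⟨c, hc⟩ := exists_section_eq (h' := h') f hf hL hL' h𝔉 q hV
  obtain ⟨σ, hσ⟩ := exists_section_eq (h' := h') f hf hL hL' h𝔉 q hV'
  let t : lvl 𝔉 (m + c) ⟶ lvl 𝔉 m := (lvlSys 𝔉).map (homOfLE (Nat.le_add_right m c)).op
  have ht : prj 𝔉 (m + c) ≫ t = prj 𝔉 m := prj_lvlSys_map _
  have hG := coh_rpush_lvl (h' := h') hL hL' f hf h𝔉 q (m + c)
  obtain ⟨I₁, K₁, _, _, gs, cs, hgs, -, -⟩ := hasRels_affine hL' hG hV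
  obtain ⟨r, hr⟩ := exists_eq_sum_gen hL' hG hV' _ (hgs.restrict (homOfLE hle))
    (gmap h' f q (prj 𝔉 (m + c)) V' x)
  choose u hu using fun i => hc m (m + c) le_rfl t ht (gs i)
  let y := ∑ i, r i • FPLocal.mres ((FSch.RpushF f h h' q).obj 𝔉) (homOfLE hle).op (u i)
  have hy : y ∈ Submodule.span (OR 𝔜 h' V') (Set.range fun i =>
      FPLocal.mres ((FSch.RpushF f h h' q).obj 𝔉) (homOfLE hle).op (s i)) := by
    refine sum_mem fun i _ => Submodule.smul_mem _ _ ?_
    have hu' : u i ∈ Submodule.span (OR 𝔜 h' V) (Set.range s) := hs ▸ trivial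
    obtain ⟨a, ha⟩ := (Submodule.mem_span_range_iff_exists_fun _).1 hu'
    rw [← ha, map_sum]
    refine sum_mem fun j _ => ?_
    rw [show FPLocal.mres ((FSch.RpushF f h h' q).obj 𝔉) (homOfLE hle).op (a j • s j) =
      rsO 𝔜 h' hle (a j) • FPLocal.mres ((FSch.RpushF f h h' q).obj 𝔉) (homOfLE hle).op (s j) from
      PresheafOfModules.map_smul _ _ _ _]
    exact Submodule.smul_mem _ _ (Submodule.subset_span ⟨j, rfl⟩)
  refine Submodule.mem_sup.2 ⟨y, hy, x - y, ?_, add_sub_cancel _ _⟩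
  refine pow_one (II 𝔜 h' V') ▸ hm (x - y) ?_
  show (((FSch.RpushF f h h' q).map (prj 𝔉 m)).val.app (op V')).hom (x - y) = 0
  rw [map_sub, sub_eq_zero, map_sum]
  have e1 : (((FSch.RpushF f h h' q).map (prj 𝔉 m)).val.app (op V')).hom x =
      gmap h' f q t V' (gmap h' f q (prj 𝔉 (m + c)) V' x) := by
    rw [gmap_gmap, ht]
  rw [e1, ← hr]
  show (((FSch.RpushF f h h' q).map t).val.app (op V')).hom _ = _
  rw [map_sum]
  refine Finset.sum_congr rfl fun i _ => ?_
  rw [map_smul, map_smul]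
  refine congrArg (r i • ·) ?_
  refine (gmap_mres f q t hle (gs i)).trans ?_
  refine Eq.trans ?_ (gmap_mres f q (prj 𝔉 m) hle (u i)).symm
  exact congrArg (FPLocal.mres _ (homOfLE hle).op) (hu i)

include hf hL hL' h𝔉 hV hV' hs in
/-- Relations over a smaller affine open come from relations over an affine open. -/
theorem mem_spanO_rel {K : Type u} (c : K → I → OR 𝔜 h' V)
    (hc : Submodule.span (OR 𝔜 h' V) (Set.range c) = LinearMap.ker (Fintype.linearCombination (OR 𝔜 h' V) s))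
    (d : I → OR 𝔜 h' V')
    (hd : ∑ i, d i • FPLocal.mres ((FSch.RpushF f h h' q).obj 𝔉) (homOfLE hle).op (s i) = 0) :
    d ∈ spanO c hle := by
  classical
  haveI := FCompl.noetherian (h := h') hL' hV'
  obtain ⟨-, hsep⟩ := finite_sections (h' := h') f hf hL hL' h𝔉 q hV
  refine mem_of_forall_mem_sup (II_le_jacobson hL' hV') _ fun e => ?_
  obtain ⟨m, hm⟩ := hsep e
  have hG := coh_rpush_lvl (h' := h') hL hL' f hf h𝔉 q m
  obtain ⟨l, cm, h0, hrc⟩ := relComplete_coh hL' hG hV fun i => gmap h' f q (prj 𝔉 m) V (s i)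
  have hdm : ∑ i, d i • FPLocal.mres ((FSch.RpushF f h h' q).obj (lvl 𝔉 m)) (homOfLE hle).op
      (gmap h' f q (prj 𝔉 m) V (s i)) = 0 := by
    have := congrArg (((FSch.RpushF f h h' q).map (prj 𝔉 m)).val.app (op V')).hom hd
    rw [map_sum, map_zero] at this
    refine Eq.trans (Finset.sum_congr rfl fun i _ => ?_) this
    rw [map_smul]
    exact congrArg (d i • ·) (gmap_mres f q (prj 𝔉 m) hle (s i)).symm
  obtain ⟨S, hS, hS'⟩ := hrc (homOfLE hle) d hdm
  have hmem : d ∈ spanO cm hle := mem_spanO_of_locally hV hL' hle hV' fun y hy => by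
    obtain ⟨Z, g, hg, hyZ⟩ := hS y hy
    obtain ⟨a, ha⟩ := hS' g hg
    refine ⟨Z, leOfHom g, hyZ, (Submodule.mem_span_range_iff_exists_fun _).2 ⟨a, funext fun i => ?_⟩⟩
    rw [Finset.sum_apply]
    exact ha i
  refine (Submodule.span_le.2 ?_ : spanO cm hle ≤ _) hmem
  rintro _ ⟨k, rfl⟩
  have hk : Fintype.linearCombination (OR 𝔜 h' V) s (cm k) ∈
      II 𝔜 h' V ^ e • (⊤ : Submodule (OR 𝔜 h' V) (((FSch.RpushF f h h' q).obj 𝔉).val.obj (op V))) := by
    refine hm _ ?_
    show (((FSch.RpushF f h h' q).map (prj 𝔉 m)).val.app (op V)).hom _ = 0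
    rw [Fintype.linearCombination_apply, map_sum]
    refine Eq.trans (Finset.sum_congr rfl fun i _ => map_smul _ _ _) (h0 k)
  rw [show (⊤ : Submodule (OR 𝔜 h' V) (((FSch.RpushF f h h' q).obj 𝔉).val.obj (op V))) =
    LinearMap.range (Fintype.linearCombination (OR 𝔜 h' V) s) by
      rw [Fintype.range_linearCombination]; exact hs.symm, ← Submodule.map_top, ← Submodule.map_smul''] at hk
  obtain ⟨j, hj, hje⟩ := Submodule.mem_map.1 hk
  have h1 : cm k - j ∈ Submodule.span (OR 𝔜 h' V) (Set.range c) := by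
    rw [hc, LinearMap.mem_ker, map_sub, hje, sub_self]
  let R : (I → OR 𝔜 h' V) →+ (I → OR 𝔜 h' V') := (rsO 𝔜 h' hle).toAddMonoidHom.compLeft I
  have hR : ∀ (a : OR 𝔜 h' V) v, R (a • v) = rsO 𝔜 h' hle a • R v := fun a v => funext fun i => map_mul (rsO 𝔜 h' hle) a (v i)
  refine Submodule.mem_sup.2 ⟨R (cm k - j), ?_, R j, ?_, ?_⟩
  · generalize cm k - j = v at h1
    induction h1 using Submodule.span_induction with
    | mem y hy => obtain ⟨k', rfl⟩ := hy; exact Submodule.subset_span ⟨k', rfl⟩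
    | zero => rw [map_zero]; exact zero_mem _
    | add p p' _ _ hp hp' => rw [map_add]; exact add_mem hp hp'
    | smul a p _ hp => rw [hR]; exact Submodule.smul_mem _ _ hp
  · have := mem_smul_top_transport (rsO 𝔜 h' hle) R hR _ hj
    rw [Ideal.map_pow, II_map hL' hV hV' hle] at this
    exact this
  · rw [← map_add, sub_add_cancel]
    rfl

omit hV' hle in
include hf hL hL' h𝔉 hV in
/-- Higher direct images have generators and relations on affine opens. -/
theorem hasRels_rpushF : FPLocal.HasRels ((FSch.RpushF f h h' q).obj 𝔉) V := by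
  classical
  haveI := FCompl.noetherian (h := h') hL' hV
  obtain ⟨hfin, -⟩ := finite_sections (h' := h') f hf hL hL' h𝔉 q hV
  haveI := hfin
  obtain ⟨n, t, ht⟩ := Module.Finite.exists_fin (R := OR 𝔜 h' V)
    (M := ((FSch.RpushF f h h' q).obj 𝔉).val.obj (op V))
  let s : ULift.{u} (Fin n) → ((FSch.RpushF f h h' q).obj 𝔉).val.obj (op V) := fun i => t i.down
  have hs : Submodule.span (OR 𝔜 h' V) (Set.range s) = ⊤ := by
    rw [← ht]
    exact congrArg _ (Equiv.ulift.surjective.range_comp t)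
  obtain ⟨l, c, hc⟩ := Submodule.fg_iff_exists_fin_generating_family.1
    (IsNoetherian.noetherian (LinearMap.ker (Fintype.linearCombination (OR 𝔜 h' V) s)))
  let c' : ULift.{u} (Fin l) → ULift.{u} (Fin n) → OR 𝔜 h' V := fun k => c k.down
  have hc' : Submodule.span (OR 𝔜 h' V) (Set.range c') = LinearMap.ker (Fintype.linearCombination (OR 𝔜 h' V) s) := by
    rw [← hc]
    exact congrArg _ (Equiv.ulift.surjective.range_comp c)
  refine ⟨_, _, inferInstance, inferInstance, s, c', ?_, fun k => ?_, ?_⟩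
  · intro W g x
    refine ⟨affSieve _ W, affSieve_mem _ W, fun Z l hl => ?_⟩
    obtain ⟨Z', hZ', hZZ', hZ'W⟩ := hl
    have := span_res_sections (h' := h') f hf hL hL' h𝔉 q hV hZ' (hZ'W.trans (leOfHom g)) s hs
    have hx : FPLocal.mres _ (homOfLE hZ'W).op x ∈ Submodule.span (OR 𝔜 h' Z') (Set.range fun i =>
      FPLocal.mres ((FSch.RpushF f h h' q).obj 𝔉) (homOfLE (hZ'W.trans (leOfHom g))).op (s i)) := this ▸ trivial
    obtain ⟨a, ha⟩ := (Submodule.mem_span_range_iff_exists_fun _).1 hx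
    refine ⟨fun i => rsO 𝔜 h' hZZ' (a i), ?_⟩
    have e := congrArg (FPLocal.mres ((FSch.RpushF f h h' q).obj 𝔉) (homOfLE hZZ').op) ha
    rw [map_sum, ← FPLocal.mres_comp'] at e
    refine Eq.trans (Finset.sum_congr rfl fun i _ => ?_) e
    refine Eq.trans ?_ (PresheafOfModules.map_smul ((FSch.RpushF f h h' q).obj 𝔉).val (homOfLE hZZ').op (a i) _).symm
    exact congrArg (rsO 𝔜 h' hZZ' (a i) • ·) (FPLocal.mres_comp' (homOfLE hZZ') (homOfLE (hZ'W.trans (leOfHom g))) (s i))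
  · have : c' k ∈ LinearMap.ker (Fintype.linearCombination (OR 𝔜 h' V) s) :=
      hc' ▸ Submodule.subset_span ⟨k, rfl⟩
    rw [LinearMap.mem_ker, Fintype.linearCombination_apply] at this
    exact this
  · intro W g d hd
    refine ⟨affSieve _ W, affSieve_mem _ W, fun Z l hl => ?_⟩
    obtain ⟨Z', hZ', hZZ', hZ'W⟩ := hl
    have hd' : ∑ i, rsO 𝔜 h' hZ'W (d i) •
        FPLocal.mres ((FSch.RpushF f h h' q).obj 𝔉) (homOfLE (hZ'W.trans (leOfHom g))).op (s i) = 0 := by
      have e := congrArg (FPLocal.mres ((FSch.RpushF f h h' q).obj 𝔉) (homOfLE hZ'W).op) hd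
      rw [map_sum, map_zero] at e
      refine Eq.trans (Finset.sum_congr rfl fun i _ => ?_) e
      refine Eq.trans ?_ (PresheafOfModules.map_smul ((FSch.RpushF f h h' q).obj 𝔉).val (homOfLE hZ'W).op (d i) _).symm
      exact congrArg (rsO 𝔜 h' hZ'W (d i) • ·) (FPLocal.mres_comp' (homOfLE hZ'W) g (s i))
    have hmem := rsv_mem_spanO hZZ'
      (mem_spanO_rel (h' := h') f hf hL hL' h𝔉 q hV hZ' (hZ'W.trans (leOfHom g)) s hs c' hc' _ hd')
    obtain ⟨e, he⟩ := (Submodule.mem_span_range_iff_exists_fun _).1 hmem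
    refine ⟨e, fun i => Eq.trans ?_ ((congrFun he i).trans (rsO_rsO hZ'W hZZ' (d i)))⟩
    rw [Finset.sum_apply]
    rfl

end Groth.Agent.FRel
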