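import Groth.Agent.FRelLib.Global
import Groth.Agent.ARSysLib.Basic

/-!
# The system of higher direct images of the levels
-/

set_option autoImplicit false
set_option linter.style.haveILetI false
set_option linter.unusedSectionVars false
set_option backward.isDefEq.respectTransparency false
set_option backward.isDefEq.respectTransparency.types false
set_option maxHeartbeats 1000000

universe u

open CategoryTheory CategoryTheory.Limits AlgebraicGeometry TopologicalSpace Opposite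
open Groth.Agent.CohBase

noncomputable section

namespace Groth.Agent.FRel

open Groth.Agent.FCompl Groth.Agent.FProper

/-- Sections of the limit of a sequence. -/
theorem seqLimit_existsUnique {𝔜 : FSch.Sys.{u}} {h' : 𝔜.IsFormal} (X : ℕ → FSch.ModF 𝔜 h') (t : ∀ k, X (k + 1) ⟶ X k)
    (W : (𝔜.X 0).Opens) (b : ∀ k, (X k).val.obj (op W)) (hb : ∀ k, ((t k).val.app (op W)).hom (b (k + 1)) = b k) :
    ∃! x : (limit (Functor.ofOpSequence t)).val.obj (op W),
      ∀ k, ((limit.π (Functor.ofOpSequence t) (op k)).val.app (op W)).hom x = b k := by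
  let E : FSch.ModF 𝔜 h' ⥤ Type u :=
    SheafOfModules.evaluation (ModSite.ringSh (𝔜.Osh h')) (op W) ⋙ CategoryTheory.forget _
  let F : ℕᵒᵖ ⥤ Type u := Functor.ofOpSequence t ⋙ E
  have hlim : IsLimit (E.mapCone (limit.cone (Functor.ofOpSequence t))) := isLimitOfPreserves _ (limit.isLimit _)
  have hsec : (fun j : ℕᵒᵖ => b j.unop) ∈ F.sections := by
    rintro ⟨k⟩ ⟨j⟩ g
    have hjk : j ≤ k := leOfHom g.unop
    obtain rfl : g = (homOfLE hjk).op := Subsingleton.elim _ _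
    induction k, hjk using Nat.le_induction with
    | base =>
      rw [show (homOfLE (le_refl j)).op = 𝟙 (op j) from rfl, F.map_id]; rfl
    | succ k hk ih =>
      rw [show (homOfLE (hk.trans (Nat.le_succ k))).op =
        (homOfLE (Nat.le_add_right k 1)).op ≫ (homOfLE hk).op from rfl, F.map_comp]
      refine Eq.trans (congrArg (F.map (homOfLE hk).op) ?_) ih
      show (((Functor.ofOpSequence t).map (homOfLE (Nat.le_add_right k 1)).op).val.app (op W)).hom (b (k + 1)) = b k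
      rw [Functor.ofOpSequence_map_homOfLE_succ]
      exact hb k
  obtain ⟨z, hz, huniq⟩ := (Types.isLimit_iff _).1 ⟨hlim⟩ _ hsec
  exact ⟨z, fun n => hz (op n), fun y hy => huniq y fun j => hy j.unop⟩

lemma seqLimit_w {C : Type*} [Category C] {X : ℕ → C} (t : ∀ k, X (k + 1) ⟶ X k) [HasLimit (Functor.ofOpSequence t)]
    (k : ℕ) : limit.π (Functor.ofOpSequence t) (op (k + 1)) ≫ t k = limit.π (Functor.ofOpSequence t) (op k) := by
  have := limit.w (Functor.ofOpSequence t) (homOfLE (Nat.le_add_right k 1)).op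
  rw [Functor.ofOpSequence_map_homOfLE_succ] at this
  exact this

variable {𝔛 𝔜 : FSch.Sys.{u}} {h : 𝔛.IsFormal} {h' : 𝔜.IsFormal} [HasInjectiveResolutions (FSch.ModF 𝔛 h)]
  (f : 𝔛 ⟶ 𝔜) (hf : FSch.IsProperHom f) (hL : 𝔛.IsLocNoethFormal) (hL' : 𝔜.IsLocNoethFormal)
  {𝔉 : FSch.ModF 𝔛 h} (h𝔉 : FSch.IsCohF 𝔛 h 𝔉) (q : ℕ)

variable (h' 𝔉) in
/-- The system of higher direct images of the levels. -/
abbrev sysQ : ℕᵒᵖ ⥤ FSch.ModF 𝔜 h' :=
  Functor.ofOpSequence (X := fun k => (FSch.RpushF f h h' q).obj (lvl 𝔉 k))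
    fun k => (FSch.RpushF f h h' q).map (ltr 𝔉 k)

lemma sysQ_map {m k : ℕ} (hmk : m ≤ k) :
    (sysQ h' f 𝔉 q).map (homOfLE hmk).op = (FSch.RpushF f h h' q).map ((lvlSys 𝔉).map (homOfLE hmk).op) := by
  induction k, hmk using Nat.le_induction with
  | base =>
    rw [show (homOfLE (le_refl m)).op = 𝟙 (op m) from rfl, CategoryTheory.Functor.map_id,
      CategoryTheory.Functor.map_id]
    exact ((FSch.RpushF f h h' q).map_id _).symm
  | succ k hk ih =>
    rw [show (homOfLE (hk.trans (Nat.le_succ k))).op =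
      (homOfLE (Nat.le_add_right k 1)).op ≫ (homOfLE hk).op from rfl, Functor.map_comp, Functor.map_comp, ih,
      show (lvlSys 𝔉).map (homOfLE (Nat.le_add_right k 1)).op = ltr 𝔉 k from
        Functor.ofOpSequence_map_homOfLE_succ _ k,
      show (sysQ h' f 𝔉 q).map (homOfLE (Nat.le_add_right k 1)).op = (FSch.RpushF f h h' q).map (ltr 𝔉 k) from
        Functor.ofOpSequence_map_homOfLE_succ _ k]
    exact (Functor.map_comp _ _ _).symm

variable (h' 𝔉) in
/-- The canonical cone. -/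
def coneQ : Cone (sysQ h' f 𝔉 q) where
  pt := (FSch.RpushF f h h' q).obj 𝔉
  π := NatTrans.ofOpSequence (F := (Functor.const ℕᵒᵖ).obj ((FSch.RpushF f h h' q).obj 𝔉))
    (G := sysQ h' f 𝔉 q) (fun k => (FSch.RpushF f h h' q).map (prj 𝔉 k)) fun k => by
      refine (Category.id_comp _).trans ?_
      rw [show (sysQ h' f 𝔉 q).map (homOfLE (Nat.le_add_right k 1)).op = (FSch.RpushF f h h' q).map (ltr 𝔉 k) from
        Functor.ofOpSequence_map_homOfLE_succ _ k]
      exact ((congrArg (FSch.RpushF f h h' q).map (prj_ltr 𝔉 k)).symm.trans (Functor.map_comp _ _ _))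

include hf hL hL' h𝔉 in
/-- Higher direct images are the limit of those of the levels. -/
theorem isIso_lift : IsIso (limit.lift (sysQ h' f 𝔉 q) (coneQ h' f 𝔉 q)) := by
  set θ := limit.lift (sysQ h' f 𝔉 q) (coneQ h' f 𝔉 q)
  have hπ : ∀ k (W : (𝔜.X 0).Opens) (s : ((FSch.RpushF f h h' q).obj 𝔉).val.obj (op W)),
      ((limit.π (sysQ h' f 𝔉 q) (op k)).val.app (op W)).hom ((θ.val.app (op W)).hom s) =
        gmap h' f q (prj 𝔉 k) W s := fun k W s =>
    congrArg (fun g : (FSch.RpushF f h h' q).obj 𝔉 ⟶ (FSch.RpushF f h h' q).obj (lvl 𝔉 k) =>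
      (g.val.app (op W)).hom s) (limit.lift_π (coneQ h' f 𝔉 q) (op k))
  haveI : Mono θ := Preadditive.mono_of_cancel_zero θ fun {M} g hg => FProper.hom_eq_zero_of_affine g fun W _ s =>
    eq_zero_of_lvl f hf hL hL' h𝔉 q _ fun k => by
      rw [← hπ]
      have e : (θ.val.app (op W)).hom ((g.val.app (op W)).hom s) = 0 :=
        congrArg (fun u : M ⟶ limit (sysQ h' f 𝔉 q) => (u.val.app (op W)).hom s) hg
      rw [e, map_zero]
  haveI : Epi θ := FPLocal.epi_of_exists_preimage θ fun W y => ⟨affSieve _ W, affSieve_mem _ W, fun Z g hg => by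
    obtain ⟨Z', hZ', hZZ', hZ'W⟩ := hg
    let y' := FPLocal.mres (limit (sysQ h' f 𝔉 q)) (homOfLE hZ'W).op y
    obtain ⟨s, hs⟩ := exists_of_lvl f hf hL hL' h𝔉 q hZ'
      (fun k => ((limit.π (sysQ h' f 𝔉 q) (op k)).val.app (op Z')).hom y') fun k =>
        congrArg (fun u : limit (sysQ h' f 𝔉 q) ⟶ (FSch.RpushF f h h' q).obj (lvl 𝔉 k) => (u.val.app (op Z')).hom y')
          (seqLimit_w _ k)
    refine ⟨FPLocal.mres _ (homOfLE hZZ').op s, ?_⟩
    have e : (θ.val.app (op Z')).hom s = y' :=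
      (seqLimit_existsUnique _ _ Z' _ fun k =>
        congrArg (fun u : limit (sysQ h' f 𝔉 q) ⟶ (FSch.RpushF f h h' q).obj (lvl 𝔉 k) => (u.val.app (op Z')).hom y')
          (seqLimit_w _ k)).unique (fun k => (hπ k Z' s).trans (hs k)) fun k => rfl
    refine (FPLocal.app_mres θ (homOfLE hZZ') s).trans ?_
    rw [e]
    exact (FPLocal.mres_comp' (homOfLE hZZ') (homOfLE hZ'W) y).symm⟩
  exact isIso_of_mono_of_epi θ

/-- Images of sheaves from local preimages. -/
theorem imLE_of_local {A B X : FSch.ModF 𝔜 h'} (u : A ⟶ X) (v : B ⟶ X)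
    (H : ∀ (W : (𝔜.X 0).Opens) (a : A.val.obj (op W)), ∃ S ∈ Opens.grothendieckTopology (𝔜.X 0) W,
      ∀ ⦃Z : (𝔜.X 0).Opens⦄ (g : Z ⟶ W), S.arrows g →
        ∃ b : B.val.obj (op Z), (v.val.app (op Z)).hom b = (u.val.app (op Z)).hom (FPLocal.mres A g.op a)) :
    ARSysLib.ImLE u v := by
  let w : (A ⊞ B) ⟶ X := biprod.desc u (-v)
  refine ⟨kernel w, kernel.ι w ≫ biprod.fst, ?_, kernel.ι w ≫ biprod.snd, ?_⟩
  · refine FPLocal.epi_of_exists_preimage _ fun W a => ?_
    obtain ⟨S, hS, hS'⟩ := H W a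
    refine ⟨S, hS, fun Z g hg => ?_⟩
    obtain ⟨b, hb⟩ := hS' g hg
    have app_comp : ∀ {P Q R : FSch.ModF 𝔜 h'} (α : P ⟶ Q) (β : Q ⟶ R) (x : P.val.obj (op Z)),
        (β.val.app (op Z)).hom ((α.val.app (op Z)).hom x) = ((α ≫ β).val.app (op Z)).hom x := fun _ _ _ => rfl
    let a' := FPLocal.mres A g.op a
    let z : (A ⊞ B).val.obj (op Z) := ((biprod.inl : A ⟶ A ⊞ B).val.app (op Z)).hom a' +
      ((biprod.inr : B ⟶ A ⊞ B).val.app (op Z)).hom b
    obtain ⟨t, ht⟩ := FPLocal.exists_kernel_preimage w z (by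
      rw [map_add, app_comp, app_comp, biprod.inl_desc, biprod.inr_desc]
      show (u.val.app (op Z)).hom a' + -((v.val.app (op Z)).hom b) = 0
      rw [hb, add_neg_cancel])
    refine ⟨t, ?_⟩
    rw [← app_comp, ht, map_add, app_comp, app_comp, biprod.inl_fst, biprod.inr_fst]
    show a' + 0 = a'
    exact add_zero a'
  · have e : biprod.fst ≫ u - biprod.snd ≫ v = w := by
      apply biprod.hom_ext' <;> simp [w]
    rw [Category.assoc, Category.assoc, ← sub_eq_zero, ← Preadditive.comp_sub, e, kernel.condition]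

include hf hL hL' h𝔉 in
/-- The Mittag-Leffler condition. -/
theorem isML_sysQ [CompactSpace (𝔜.X 0)] : ARSys.IsML (sysQ h' f 𝔉 q) := by
  classical
  obtain ⟨α, _, Vc, gV, hcov, hVaff⟩ := FPLocal.exists_finite_cover (U := (⊤ : (𝔜.X 0).Opens))
    (P := fun W _ => IsAffineOpen W) (by simpa using isCompact_univ) fun x hx => by
      obtain ⟨W, hW, hxW, -⟩ := FCompl.exists_affine_le (𝔛 := 𝔜) hx
      exact ⟨W, homOfLE le_top, hxW, hW⟩
  choose c hc using fun a => exists_section_eq (h' := h') f hf hL hL' h𝔉 q (hVaff a)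
  intro m
  refine ⟨Finset.univ.sup c, fun s hs => le_antisymm ?_ ?_⟩
  · exact (ARSysLib.imLE_iff _ _).2
      (ARSysLib.imLE_tr_of_le _ (Nat.le_add_right m _) (Nat.add_le_add_left hs m))
  refine (ARSysLib.imLE_iff _ _).2 (imLE_of_local _ _ fun W x => ?_)
  let k := m + Finset.univ.sup c
  let S : Sieve W := { arrows := fun Z _ => ∃ a Z', IsAffineOpen Z' ∧ Z ≤ Z' ∧ Z' ≤ W ∧ Z' ≤ Vc a
                       downward_closed := fun {Z Z'} g ⟨a, Z₀, h1, h2, h3, h4⟩ r =>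
                         ⟨a, Z₀, h1, (leOfHom r).trans h2, h3, h4⟩ }
  refine ⟨S, fun y hy => ?_, fun Z g hg => ?_⟩
  · obtain ⟨a, hya⟩ := hcov y trivial
    obtain ⟨Z', hZ', hyZ', hle⟩ := FCompl.exists_affine_le (𝔛 := 𝔜) (U := W ⊓ Vc a) (x := y) ⟨hy, hya⟩
    exact ⟨Z', homOfLE (hle.trans inf_le_left), ⟨a, Z', hZ', le_rfl, hle.trans inf_le_left, hle.trans inf_le_right⟩,
      hyZ'⟩
  obtain ⟨a, Z', hZ', hZZ', hZ'W, hZ'V⟩ := hg
  have hG := coh_rpush_lvl (h' := h') hL hL' f hf h𝔉 q k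
  obtain ⟨I, K, _, _, gs, cs, hgs, -, -⟩ := hasRels_affine hL' hG (hVaff a)
  obtain ⟨r, hr⟩ := exists_eq_sum_gen hL' hG hZ' _ (hgs.restrict (homOfLE hZ'V))
    (FPLocal.mres _ (homOfLE hZ'W).op x)
  choose σ hσ using fun i => hc a m k (Nat.add_le_add_left (Finset.le_sup (Finset.mem_univ a)) m)
    ((lvlSys 𝔉).map (homOfLE (Nat.le_add_right m (Finset.univ.sup c))).op) (prj_lvlSys_map _) (gs i)
  refine ⟨gmap h' f q (prj 𝔉 (m + s)) Z (FPLocal.mres _ (homOfLE hZZ').op
    (∑ i, r i • FPLocal.mres ((FSch.RpushF f h h' q).obj 𝔉) (homOfLE hZ'V).op (σ i))), ?_⟩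
  show (((sysQ h' f 𝔉 q).map (homOfLE (Nat.le_add_right m s)).op).val.app (op Z)).hom _ =
    (((sysQ h' f 𝔉 q).map (homOfLE (Nat.le_add_right m (Finset.univ.sup c))).op).val.app (op Z)).hom _
  rw [sysQ_map, sysQ_map]
  refine (gmap_gmap f q (prj 𝔉 (m + s)) _ Z _).trans ?_
  rw [prj_lvlSys_map, gmap_mres]
  have e0 : FPLocal.mres ((FSch.RpushF f h h' q).obj (lvl 𝔉 k)) g.op x =
      FPLocal.mres _ (homOfLE hZZ').op (FPLocal.mres _ (homOfLE hZ'W).op x) :=
    FPLocal.mres_comp' (homOfLE hZZ') (homOfLE hZ'W) x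
  refine Eq.trans ?_ (congrArg _ e0).symm
  refine Eq.trans ?_ (gmap_mres f q _ hZZ' _).symm
  refine congrArg (FPLocal.mres _ (homOfLE hZZ').op) ?_
  refine Eq.trans ?_ (congrArg (gmap h' f q _ Z') hr)
  show (((FSch.RpushF f h h' q).map (prj 𝔉 m)).val.app (op Z')).hom _ =
    (((FSch.RpushF f h h' q).map _).val.app (op Z')).hom _
  rw [map_sum, map_sum]
  refine Finset.sum_congr rfl fun i _ => ?_
  rw [map_smul, map_smul]
  refine congrArg (r i • ·) ?_
  refine (gmap_mres f q (prj 𝔉 m) hZ'V (σ i)).trans ?_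
  refine Eq.trans ?_ (gmap_mres f q _ hZ'V (gs i)).symm
  exact congrArg (FPLocal.mres _ (homOfLE hZ'V).op) (hσ i).symm

end Groth.Agent.FRel
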