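import Mathlib.CategoryTheory.Abelian.RightDerived
import Mathlib.CategoryTheory.Abelian.Exact
import Mathlib.CategoryTheory.Limits.Preserves.Shapes.Kernels
import Mathlib.Algebra.Homology.ShortComplex.HomologicalComplex

/-!
# Cosyzygies of an injective resolution and derived functors
-/

set_option autoImplicit false
set_option linter.style.haveILetI false
set_option linter.unusedSectionVars false
set_option backward.isDefEq.respectTransparency false
set_option backward.isDefEq.respectTransparency.types false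

universe v v' u u'

open CategoryTheory CategoryTheory.Limits

noncomputable section

namespace Groth.Agent.FRel

variable {𝒜 : Type u} [Category.{v} 𝒜] [Abelian 𝒜] {M M' : 𝒜} (R : InjectiveResolution M) (R' : InjectiveResolution M')

/-- The cocycle objects. -/
def Kz (j : ℕ) : 𝒜 := kernel (R.cocomplex.d j (j + 1))

/-- The inclusion of the cocycles. -/
def zι (j : ℕ) : Kz R j ⟶ R.cocomplex.X j := kernel.ι _

instance mono_zι (j : ℕ) : Mono (zι R j) := inferInstanceAs (Mono (kernel.ι _))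

/-- The differential onto the cocycles. -/
def zq (j : ℕ) : R.cocomplex.X j ⟶ Kz R (j + 1) :=
  kernel.lift _ (R.cocomplex.d j (j + 1)) (R.cocomplex.d_comp_d _ _ _)

@[reassoc]
lemma zq_zι (j : ℕ) : zq R j ≫ zι R (j + 1) = R.cocomplex.d j (j + 1) := kernel.lift_ι _ _ _

@[reassoc]
lemma zι_d (j : ℕ) : zι R j ≫ R.cocomplex.d j (j + 1) = 0 := kernel.condition _

lemma zι_zq (j : ℕ) : zι R j ≫ zq R j = 0 := by
  rw [← cancel_mono (zι R (j + 1)), Category.assoc, zq_zι, zι_d, zero_comp]

instance epi_zq (j : ℕ) : Epi (zq R j) := (R.exact_succ j).epi_kernelLift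

/-- The sequence of cocycles. -/
abbrev zSeq (j : ℕ) : ShortComplex 𝒜 := ShortComplex.mk (zι R j) (zq R j) (zι_zq R j)

lemma zSeq_shortExact (j : ℕ) : (zSeq R j).ShortExact :=
  ShortComplex.ShortExact.mk' (ShortComplex.exact_of_f_is_kernel _
    (KernelFork.IsLimit.ofι' (zι R j) (zι_zq R j) fun {A} k hk =>
      ⟨kernel.lift (R.cocomplex.d j (j + 1)) k (by
        have hk' : k ≫ zq R j = 0 := hk
        rw [← zq_zι, ← Category.assoc, hk', zero_comp]), kernel.lift_ι _ _ _⟩))
    (mono_zι R j) (epi_zq R j)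

/-- The object is the object of degree zero cocycles. -/
def toK0 : M ⟶ Kz R 0 := kernel.lift _ (R.ι.f 0) R.ι_f_zero_comp_complex_d

lemma toK0_zι : toK0 R ≫ zι R 0 = R.ι.f 0 := kernel.lift_ι _ _ _

instance mono_ι_f_zero : Mono (R.ι.f 0) := inferInstance

instance isIso_toK0 : IsIso (toK0 R) := by
  haveI : Mono (toK0 R) := by
    haveI : Mono (toK0 R ≫ zι R 0) := by rw [toK0_zι]; infer_instance
    exact mono_of_mono (toK0 R) (zι R 0)
  haveI : Epi (toK0 R) := R.exact₀.epi_kernelLift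
  exact isIso_of_mono_of_epi _

variable {R R'} (φ : R.cocomplex ⟶ R'.cocomplex)

/-- A map of resolutions on cocycles. -/
def zmap (j : ℕ) : Kz R j ⟶ Kz R' j :=
  kernel.map _ _ (φ.f j) (φ.f (j + 1)) (φ.comm j (j + 1)).symm

@[reassoc]
lemma zmap_zι (j : ℕ) : zmap φ j ≫ zι R' j = zι R j ≫ φ.f j := kernel.lift_ι _ _ _

lemma zq_zmap (j : ℕ) : zq R j ≫ zmap φ (j + 1) = φ.f j ≫ zq R' j := by
  rw [← cancel_mono (zι R' (j + 1)), Category.assoc, Category.assoc, zmap_zι, zq_zι, zq_zι_assoc, φ.comm]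

/-- A map of resolutions on the sequences of cocycles. -/
def zSeqMap (j : ℕ) : zSeq R j ⟶ zSeq R' j :=
  ⟨zmap φ j, φ.f j, zmap φ (j + 1), zmap_zι φ j, (zq_zmap φ j).symm⟩

lemma toK0_zmap {g : M ⟶ M'} (hg : R.ι.f 0 ≫ φ.f 0 = g ≫ R'.ι.f 0) :
    toK0 R ≫ zmap φ 0 = g ≫ toK0 R' := by
  rw [← cancel_mono (zι R' 0), Category.assoc, zmap_zι, ← Category.assoc, toK0_zι, hg, Category.assoc, toK0_zι]

variable (R R')

variable {ℬ : Type u'} [Category.{v'} ℬ] [Abelian ℬ] (F : 𝒜 ⥤ ℬ) [F.Additive] [PreservesFiniteLimits F]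

/-- The image of the resolution. -/
abbrev fC : CochainComplex ℬ ℕ := (F.mapHomologicalComplex _).obj R.cocomplex

/-- The image of the cocycles as cycles. -/
def toCyc (j : ℕ) : F.obj (Kz R j) ⟶ (fC R F).cycles j :=
  (fC R F).liftCycles (F.map (zι R j)) (j + 1) (by simp) (by
    show F.map (zι R j) ≫ F.map (R.cocomplex.d j (j + 1)) = 0
    rw [← F.map_comp, zι_d, F.map_zero])

@[reassoc]
lemma toCyc_i (j : ℕ) : toCyc R F j ≫ (fC R F).iCycles j = F.map (zι R j) :=
  (fC R F).liftCycles_i _ _ _ _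

instance isIso_toCyc (j : ℕ) : IsIso (toCyc R F j) := by
  haveI : Mono (F.map (zι R j)) := inferInstance
  haveI : Mono (toCyc R F j) := by
    haveI : Mono (toCyc R F j ≫ (fC R F).iCycles j) := by rw [toCyc_i]; infer_instance
    exact mono_of_mono (toCyc R F j) ((fC R F).iCycles j)
  have h0 : (fC R F).iCycles j ≫ F.map (R.cocomplex.d j (j + 1)) = 0 := (fC R F).iCycles_d j (j + 1)
  let r : (fC R F).cycles j ⟶ F.obj (Kz R j) :=
    kernel.lift _ ((fC R F).iCycles j) h0 ≫ (PreservesKernel.iso F (R.cocomplex.d j (j + 1))).inv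
  have hr : r ≫ F.map (zι R j) = (fC R F).iCycles j := by
    show (kernel.lift _ _ h0 ≫ _) ≫ _ = _
    rw [Category.assoc, show (PreservesKernel.iso F (R.cocomplex.d j (j + 1))).inv ≫ F.map (zι R j) =
      kernel.ι (F.map (R.cocomplex.d j (j + 1))) from by
        rw [Iso.inv_comp_eq, PreservesKernel.iso_hom, kernelComparison_comp_ι]; rfl, kernel.lift_ι]
  haveI : IsSplitEpi (toCyc R F j) := IsSplitEpi.mk' ⟨r, by
    rw [← cancel_mono ((fC R F).iCycles j), Category.assoc, toCyc_i, hr, Category.id_comp]⟩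
  exact isIso_of_mono_of_epi _

lemma toCycles_eq (j : ℕ) : (fC R F).toCycles j (j + 1) = F.map (zq R j) ≫ toCyc R F (j + 1) := by
  rw [← cancel_mono ((fC R F).iCycles (j + 1)), HomologicalComplex.toCycles_i, Category.assoc, toCyc_i, ← F.map_comp,
    zq_zι]
  rfl

variable [HasInjectiveResolutions 𝒜]

/-- The class of a cocycle in the derived functor. -/
def πR (q : ℕ) : F.obj (Kz R q) ⟶ (F.rightDerived q).obj M :=
  toCyc R F q ≫ (fC R F).homologyπ q ≫ (R.isoRightDerivedObj F q).inv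

instance epi_πR (q : ℕ) : Epi (πR R F q) := by
  unfold πR
  haveI : Epi ((fC R F).homologyπ q ≫ (R.isoRightDerivedObj F q).inv) := epi_comp _ _
  exact epi_comp _ _

instance isIso_πR_zero : IsIso (πR R F 0) := by
  unfold πR
  haveI : IsIso ((fC R F).homologyπ 0) :=
    (fC R F).isIso_homologyπ 0 0 (by simp) ((fC R F).shape _ _ (by simp))
  infer_instance

lemma zq_πR (j : ℕ) : F.map (zq R j) ≫ πR R F (j + 1) = 0 := by
  unfold πR
  rw [← Category.assoc, ← toCycles_eq, HomologicalComplex.toCycles_comp_homologyπ_assoc, zero_comp]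

/-- The sequence computing the derived functor. -/
def rSeq (j : ℕ) : ShortComplex ℬ := ShortComplex.mk (F.map (zq R j)) (πR R F (j + 1)) (zq_πR R F j)

lemma rSeq_exact (j : ℕ) : (rSeq R F j).Exact := by
  have hc := (fC R F).homologyIsCokernel j (j + 1) (by simp)
  let S : ShortComplex ℬ := ShortComplex.mk ((fC R F).toCycles j (j + 1)) ((fC R F).homologyπ (j + 1))
    (HomologicalComplex.toCycles_comp_homologyπ _ _ _)
  have hS : S.Exact := ShortComplex.exact_of_g_is_cokernel _ hc
  refine ShortComplex.exact_of_iso ?_ hS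
  refine (ShortComplex.isoMk (S₁ := rSeq R F j) (S₂ := S) (Iso.refl _) (asIso (toCyc R F (j + 1))) (R.isoRightDerivedObj F (j + 1)) ?_ ?_).symm
  · exact (Category.id_comp _).trans (toCycles_eq R F j)
  · show toCyc R F (j + 1) ≫ (fC R F).homologyπ (j + 1) = πR R F (j + 1) ≫ (R.isoRightDerivedObj F (j + 1)).hom
    rw [πR, Category.assoc, Category.assoc, Iso.inv_hom_id, Category.comp_id]

variable {R R'}

lemma πR_natural {g : M ⟶ M'} (hg : R.ι.f 0 ≫ φ.f 0 = g ≫ R'.ι.f 0) (q : ℕ) :
    F.map (zmap φ q) ≫ πR R' F q = πR R F q ≫ (F.rightDerived q).map g := by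
  let Φ := (F.mapHomologicalComplex (ComplexShape.up ℕ)).map φ
  have h1 : F.map (zmap φ q) ≫ toCyc R' F q = toCyc R F q ≫ HomologicalComplex.cyclesMap Φ q := by
    rw [← cancel_mono ((fC R' F).iCycles q), Category.assoc, Category.assoc, toCyc_i, HomologicalComplex.cyclesMap_i,
      ← F.map_comp, zmap_zι, F.map_comp, toCyc_i_assoc]
    rfl
  unfold πR
  rw [Category.assoc, Category.assoc, R.isoRightDerivedObj_inv_naturality g R' φ hg F q, reassoc_of% h1,
    ← HomologicalComplex.homologyπ_naturality_assoc]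
  rfl

end Groth.Agent.FRel
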