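import Groth.Agent.FRelLib.CompareV

/-!
# From Čech cohomology over a preimage to sections of higher direct images
-/

set_option autoImplicit false
set_option linter.style.haveILetI false
set_option linter.unusedSectionVars false
set_option backward.isDefEq.respectTransparency false
set_option backward.isDefEq.respectTransparency.types false
set_option maxHeartbeats 1000000

universe u

open CategoryTheory CategoryTheory.Limits AlgebraicGeometry TopologicalSpace Opposite
open Groth.Agent.CohBase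

noncomputable section

namespace Groth.Agent.FRel

open Groth.Agent.FCompl Groth.Agent.FProper

lemma liftQ_symm_apply {A X Y Z : Type*} [CommRing A] [AddCommGroup X] [Module A X] [AddCommGroup Y] [Module A Y]
    [AddCommGroup Z] [Module A Z] (g : X →ₗ[A] Y) (r : X →ₗ[A] Z) (hs : Function.Surjective g)
    (hle : LinearMap.ker g ≤ LinearMap.ker r) (x : X) :
    (((LinearMap.ker g).liftQ r hle).comp (g.quotKerEquivOfSurjective hs).symm.toLinearMap) (g x) = r x := by
  have h1 : (g.quotKerEquivOfSurjective hs).symm (g x) = Submodule.Quotient.mk x :=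
    (LinearEquiv.symm_apply_eq _).2 rfl
  simp only [LinearMap.coe_comp, LinearEquiv.coe_coe, Function.comp_apply, h1, Submodule.liftQ_apply]

variable {𝔛 𝔜 : FSch.Sys.{u}} {h : 𝔛.IsFormal} {h' : 𝔜.IsFormal}

/-- The preimage of an open. -/
abbrev preV (f : 𝔛 ⟶ 𝔜) (V : (𝔜.X 0).Opens) : (𝔛.X 0).Opens := (f : FSch.Hom 𝔛 𝔜).app 0 ⁻¹ᵁ V

variable (h h') in
/-- The sections of the base acting on the preimage. -/
def shV (f : 𝔛 ⟶ 𝔜) (V : (𝔜.X 0).Opens) : OR 𝔜 h' V →+* OR 𝔛 h (preV f V) :=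
  ((FSch.Hom.sharp f h h').hom.app (op V)).hom

variable (h h') in
/-- The covering datum of a preimage. -/
def cvV (f : 𝔛 ⟶ 𝔜) (V : (𝔜.X 0).Opens) {ι : Type u} (U : ι → (𝔛.X 0).Opens) (hle : ∀ i, U i ≤ preV f V) :
    Cv (OR 𝔜 h' V) h where
  W := preV f V
  ψ := shV h h' f V
  ι := ι
  U := U
  le := hle

variable (f : 𝔛 ⟶ 𝔜) (V : (𝔜.X 0).Opens) {ι : Type u} (U : ι → (𝔛.X 0).Opens) (hle : ∀ i, U i ≤ preV f V)

lemma flasque_push (I : FSch.ModF 𝔛 h) [Injective I] :
    TopCat.Sheaf.IsFlasque (X := (𝔜.X 0).carrier) (TS ((FSch.pushF f h h').obj I)) :=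
  LocZLib.isFlasque_of_surjective _ fun {W W'} hW => fun s =>
    SiteBase.surjective_map_of_injective _ I (homOfLE (Scheme.Hom.preimage_mono ((f : FSch.Hom 𝔛 𝔜).app 0) hW)) s

/-- Higher direct images are acyclic on an open. -/
def AcV (N : FSch.ModF 𝔜 h') (V : (𝔜.X 0).Opens) : Prop := ∀ n, Subsingleton (HU V (TS N) (n + 1))

lemma AcV_of_iso {N N' : FSch.ModF 𝔜 h'} (e : N ≅ N') (hN : AcV N V) : AcV N' V := fun n => by
  haveI := hN n
  exact Function.Surjective.subsingleton
    (f := hmap V ((SheafOfModules.toSheaf (ModSite.ringSh (𝔜.Osh h'))).map e.hom) (n + 1))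
    fun x => ⟨hmap V ((SheafOfModules.toSheaf (ModSite.ringSh (𝔜.Osh h'))).map e.inv) (n + 1) x, by
      rw [hmap_apply, hmap_apply, Abelian.Ext.comp_assoc_of_second_deg_zero, Abelian.Ext.mk₀_comp_mk₀,
        ← Functor.map_comp, e.inv_hom_id, CategoryTheory.Functor.map_id, Abelian.Ext.comp_mk₀_id]⟩

lemma AcV_of_coh (hL' : 𝔜.IsLocNoethFormal) {N : FSch.ModF 𝔜 h'} (hN : FSch.IsCohF 𝔜 h' N) (hV : IsAffineOpen V) :
    AcV N V := fun n => subsingleton_HU_of_affQC hL' (affQC_of_coh hL' hN) hV n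

variable [HasInjectiveResolutions (FSch.ModF 𝔛 h)] {M : FSch.ModF 𝔛 h} (R : InjectiveResolution M)

/-- The image of the differential. -/
def bIm (j : ℕ) : FSch.ModF 𝔜 h' := kernel (πR R (FSch.pushF f h h') (j + 1))

/-- The differential onto its image. -/
def bLift (j : ℕ) : (FSch.pushF f h h').obj (R.cocomplex.X j) ⟶ bIm (h' := h') f R j :=
  kernel.lift _ ((FSch.pushF f h h').map (zq R j)) (zq_πR R _ j)

lemma bLift_ι (j : ℕ) : bLift (h' := h') f R j ≫ kernel.ι (πR R (FSch.pushF f h h') (j + 1)) =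
    (FSch.pushF f h h').map (zq R j) := kernel.lift_ι _ _ _

lemma bSeq_shortExact (j : ℕ) : (ShortComplex.mk ((FSch.pushF f h h').map (zι R j)) (bLift (h' := h') f R j) (by
    rw [← cancel_mono (kernel.ι _), Category.assoc, bLift_ι, ← Functor.map_comp, zι_zq, Functor.map_zero,
      zero_comp])).ShortExact := by
  haveI : Mono ((FSch.pushF f h h').map (zι R j)) := inferInstance
  have hex : (ShortComplex.mk ((FSch.pushF f h h').map (zι R j)) ((FSch.pushF f h h').map (zq R j))
      (by rw [← Functor.map_comp, zι_zq, Functor.map_zero])).Exact := by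
    haveI : Mono (zSeq R j).f := mono_zι R j
    exact (zSeq_shortExact R j).exact.map_of_mono_of_preservesKernel (FSch.pushF f h h') inferInstance inferInstance
  refine ShortComplex.ShortExact.mk' ?_ inferInstance (rSeq_exact R (FSch.pushF f h h') j).epi_kernelLift
  let φ : ShortComplex.mk ((FSch.pushF f h h').map (zι R j)) (bLift (h' := h') f R j) (by
      rw [← cancel_mono (kernel.ι _), Category.assoc, bLift_ι, ← Functor.map_comp, zι_zq, Functor.map_zero,
        zero_comp]) ⟶ ShortComplex.mk ((FSch.pushF f h h').map (zι R j)) ((FSch.pushF f h h').map (zq R j))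
      (by rw [← Functor.map_comp, zι_zq, Functor.map_zero]) :=
    ⟨𝟙 _, 𝟙 _, kernel.ι (πR R (FSch.pushF f h h') (j + 1)), by simp, by simp [bLift_ι]⟩
  haveI : Epi φ.τ₁ := inferInstanceAs (Epi (𝟙 _))
  haveI : IsIso φ.τ₂ := inferInstanceAs (IsIso (𝟙 _))
  haveI : Mono φ.τ₃ := inferInstanceAs (Mono (kernel.ι _))
  exact (ShortComplex.exact_iff_of_epi_of_isIso_of_mono φ).2 hex

lemma kSeq_shortExact (j : ℕ) :
    (ShortComplex.mk (kernel.ι (πR R (FSch.pushF f h h') (j + 1))) (πR R (FSch.pushF f h h') (j + 1))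
      (kernel.condition _)).ShortExact :=
  ShortComplex.ShortExact.mk' (ShortComplex.exact_of_f_is_kernel _ (kernelIsKernel _)) inferInstance inferInstance

lemma acV_bIm (j : ℕ) (hK : AcV ((FSch.pushF f h h').obj (Kz R j)) V) : AcV (bIm (h' := h') f R j) V := fun n => by
  haveI := flasque_push (h := h) (h' := h') f (R.cocomplex.X j)
  haveI hfl : Subsingleton (HU V (TS ((FSch.pushF f h h').obj (R.cocomplex.X j))) (n + 1)) :=
    LocZLib.subsingleton_HU_flasque (X := (𝔜.X 0).carrier) V n (TS ((FSch.pushF f h h').obj (R.cocomplex.X j)))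
  haveI : Subsingleton (HU V (TS ((FSch.pushF f h h').obj (Kz R j))) (n + 1 + 1)) := hK (n + 1)
  have hse := toSheaf_SE (bSeq_shortExact (h' := h') f R j)
  refine subsingleton_of_forall_eq 0 fun x => ?_
  obtain ⟨x₂, rfl⟩ := Abelian.Ext.covariant_sequence_exact₃ (freeAb V) hse x rfl (Subsingleton.elim (α := HU V
    (TS ((FSch.pushF f h h').obj (Kz R j))) (n + 1 + 1)) _ _)
  obtain rfl : x₂ = 0 := @Subsingleton.elim _ hfl x₂ 0
  exact Abelian.Ext.zero_comp _ _ _ _ _

lemma acV_Kz (hR : ∀ q, AcV ((FSch.RpushF f h h' q).obj M) V) :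
    ∀ j, AcV ((FSch.pushF f h h').obj (Kz R j)) V
  | 0 => AcV_of_iso V (asIso (πR R (FSch.pushF f h h') 0)).symm (hR 0)
  | j + 1 => fun n => by
    have hse := toSheaf_SE (kSeq_shortExact (h' := h') f R j)
    haveI : Subsingleton (HU V (TS (bIm (h' := h') f R j)) (n + 1)) := acV_bIm f V R j (acV_Kz hR j) n
    haveI : Subsingleton (HU V (TS ((FSch.RpushF f h h' (j + 1)).obj M)) (n + 1)) := hR (j + 1) n
    refine subsingleton_of_forall_eq 0 fun (x : HU V (TS ((FSch.pushF f h h').obj (Kz R (j + 1)))) (n + 1)) => ?_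
    obtain ⟨x₁, rfl⟩ := Abelian.Ext.covariant_sequence_exact₂ (freeAb V) hse x (Subsingleton.elim (α := HU V
      (TS ((FSch.RpushF f h h' (j + 1)).obj M)) (n + 1)) _ _)
    obtain rfl : x₁ = 0 := Subsingleton.elim (α := HU V (TS (bIm (h' := h') f R j)) (n + 1)) x₁ 0
    exact Abelian.Ext.zero_comp _ _ _ _ _

/-- Cocycle sections give sections of higher direct images. -/
def ρ (q : ℕ) : SecW (cvV h h' f V U hle) (Kz R q) →ₗ[OR 𝔜 h' V] ((FSch.RpushF f h h' q).obj M).val.obj (op V) where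
  toFun x := ((πR R (FSch.pushF f h h') q).val.app (op V)).hom x
  map_add' := map_add ((πR R (FSch.pushF f h h') q).val.app (op V)).hom
  map_smul' a x := ((πR R (FSch.pushF f h h') q).val.app (op V)).hom.map_smul a x

lemma ρ_zq (q : ℕ) (y : SecW (cvV h h' f V U hle) (R.cocomplex.X q)) :
    ρ f V U hle R (q + 1) (SWmap (cvV h h' f V U hle) (zq R q) y) = 0 :=
  congrArg (fun k : (FSch.pushF f h h').obj (R.cocomplex.X q) ⟶ (FSch.RpushF f h h' (q + 1)).obj M =>
    (k.val.app (op V)).hom y) (zq_πR R (FSch.pushF f h h') q)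

lemma ρ_natural {M' : FSch.ModF 𝔛 h} {R' : InjectiveResolution M'} (φ : R.cocomplex ⟶ R'.cocomplex) {g : M ⟶ M'}
    (hg : R.ι.f 0 ≫ φ.f 0 = g ≫ R'.ι.f 0) (q : ℕ) (x : SecW (cvV h h' f V U hle) (Kz R q)) :
    ρ f V U hle R' q (SWmap (cvV h h' f V U hle) (zmap φ q) x) =
      (((FSch.RpushF f h h' q).map g).val.app (op V)).hom (ρ f V U hle R q x) :=
  congrArg (fun k : (FSch.pushF f h h').obj (Kz R q) ⟶ (FSch.RpushF f h h' q).obj M' => (k.val.app (op V)).hom x)
    (πR_natural φ (FSch.pushF f h h') hg q)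

lemma ρ_surjective (hR : ∀ q, AcV ((FSch.RpushF f h h' q).obj M) V) (q : ℕ) :
    Function.Surjective (ρ (h' := h') f V U hle R q) := by
  cases q with
  | zero =>
    intro y
    exact ⟨((inv (πR R (FSch.pushF f h h') 0)).val.app (op V)).hom y,
      congrArg (fun k : (FSch.RpushF f h h' 0).obj M ⟶ (FSch.RpushF f h h' 0).obj M => (k.val.app (op V)).hom y)
        (IsIso.inv_hom_id (πR R (FSch.pushF f h h') 0))⟩
  | succ j =>
    haveI : Subsingleton (HU V ((ShortComplex.mk (kernel.ι (πR R (FSch.pushF f h h') (j + 1)))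
        (πR R (FSch.pushF f h h') (j + 1)) (kernel.condition _)).map
          (SheafOfModules.toSheaf (ModSite.ringSh (𝔜.Osh h')))).X₁ 1) :=
      acV_bIm f V R j (acV_Kz f V R hR j) 0
    exact sections_surjective (toSheaf_SE (kSeq_shortExact (h' := h') f R j)) V

lemma ρ_zero_injective : Function.Injective (ρ (h' := h') f V U hle R 0) :=
  FPLocal.app_injective_of_mono (πR R (FSch.pushF f h h') 0) V

lemma ρ_succ_eq_zero (hR : ∀ q, AcV ((FSch.RpushF f h h' q).obj M) V) (q : ℕ)
    (x : SecW (cvV h h' f V U hle) (Kz R (q + 1))) (hx : ρ f V U hle R (q + 1) x = 0) :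
    ∃ y, SWmap (cvV h h' f V U hle) (zq R q) y = x := by
  obtain ⟨b, hb⟩ := FPLocal.exists_kernel_preimage (πR R (FSch.pushF f h h') (q + 1)) (U := V) x hx
  haveI : Subsingleton (HU V ((ShortComplex.mk ((FSch.pushF f h h').map (zι R q)) (bLift (h' := h') f R q) (by
      rw [← cancel_mono (kernel.ι _), Category.assoc, bLift_ι, ← Functor.map_comp, zι_zq, Functor.map_zero,
        zero_comp])).map (SheafOfModules.toSheaf (ModSite.ringSh (𝔜.Osh h')))).X₁ 1) := acV_Kz f V R hR q 0
  obtain ⟨y, hy⟩ := sections_surjective (toSheaf_SE (bSeq_shortExact (h' := h') f R q)) V b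
  refine ⟨y, Eq.trans ?_ hb⟩
  refine Eq.trans ?_ (congrArg ((kernel.ι (πR R (FSch.pushF f h h') (q + 1))).val.app (op V)).hom hy)
  exact (congrArg (fun k : (FSch.pushF f h h').obj (R.cocomplex.X q) ⟶ (FSch.pushF f h h').obj (Kz R (q + 1)) =>
    (k.val.app (op V)).hom y) (bLift_ι (h' := h') f R q)).symm

/-- Sections of higher direct images come locally from cocycle sections. -/
lemma exists_ρ_local (q : ℕ) {V₀ : (𝔜.X 0).Opens} (x : ((FSch.RpushF f h h' q).obj M).val.obj (op V₀)) {y : 𝔜.X 0}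
    (hy : y ∈ V₀) : ∃ (V : (𝔜.X 0).Opens) (hV : V ≤ V₀), IsAffineOpen V ∧ y ∈ V ∧
      ∃ s : ((FSch.pushF f h h').obj (Kz R q)).val.obj (op V),
        ((πR R (FSch.pushF f h h') q).val.app (op V)).hom s =
          FPLocal.mres ((FSch.RpushF f h h' q).obj M) (homOfLE hV).op x := by
  obtain ⟨S, hS, hS'⟩ := FPLocal.exists_sieve_preimage (πR R (FSch.pushF f h h') q) x
  obtain ⟨Z, l, hl, hyZ⟩ := hS y hy
  obtain ⟨V, hV, hyV, hVZ⟩ := exists_affine_le (𝔛 := 𝔜) hyZ
  obtain ⟨t, ht⟩ := hS' l hl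
  refine ⟨V, hVZ.trans (leOfHom l), hV, hyV, FPLocal.mres _ (homOfLE hVZ).op t, ?_⟩
  refine (FPLocal.app_mres (πR R (FSch.pushF f h h') q) (homOfLE hVZ) t).trans ?_
  rw [ht, ← FPLocal.mres_comp]
  rfl

variable (hM : Acyclic U (TS M)) (hcov : preV f V ≤ iSup U)

include hcov in
lemma θ_ker_le_ρ_ker (q : ℕ) (x : SecW (cvV h h' f V U hle) (Kz R q))
    (hx : θ (cvV h h' f V U hle) R hM q x = 0) : ρ f V U hle R q x = 0 := by
  cases q with
  | zero =>
    rw [θ_zero_injective (cvV h h' f V U hle) R hM hcov (hx.trans (map_zero _).symm)]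
    exact map_zero _
  | succ j =>
    obtain ⟨y, rfl⟩ := θ_succ_eq_zero (cvV h h' f V U hle) R hM hcov j x hx
    exact ρ_zq f V U hle R j y

/-- The comparison map, for a resolution. -/
def ηR (q : ℕ) : HW (cvV h h' f V U hle) q M →ₗ[OR 𝔜 h' V] ((FSch.RpushF f h h' q).obj M).val.obj (op V) :=
  ((LinearMap.ker (θ (cvV h h' f V U hle) R hM q)).liftQ (ρ f V U hle R q)
      fun x hx => LinearMap.mem_ker.2 (θ_ker_le_ρ_ker f V U hle R hM hcov q x (LinearMap.mem_ker.1 hx))).comp
    ((θ (cvV h h' f V U hle) R hM q).quotKerEquivOfSurjective (θ_surjective (cvV h h' f V U hle) R hM hcov q)).symm.toLinearMap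

lemma ηR_θ (q : ℕ) (x : SecW (cvV h h' f V U hle) (Kz R q)) :
    ηR f V U hle R hM hcov q (θ (cvV h h' f V U hle) R hM q x) = ρ f V U hle R q x :=
  liftQ_symm_apply _ _ _ _ x

/-- The comparison map. -/
def η (q : ℕ) (M : FSch.ModF 𝔛 h) (hM : Acyclic U (TS M)) :
    HW (cvV h h' f V U hle) q M →ₗ[OR 𝔜 h' V] ((FSch.RpushF f h h' q).obj M).val.obj (op V) :=
  ηR f V U hle (injectiveResolution M) hM hcov q

lemma η_natural (q : ℕ) {M M' : FSch.ModF 𝔛 h} (hM : Acyclic U (TS M)) (hM' : Acyclic U (TS M')) (g : M ⟶ M')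
    (x : HW (cvV h h' f V U hle) q M) :
    η f V U hle hcov q M' hM' (HWmap (cvV h h' f V U hle) q g x) =
      (((FSch.RpushF f h h' q).map g).val.app (op V)).hom (η f V U hle hcov q M hM x) := by
  let φ := InjectiveResolution.desc g (injectiveResolution M') (injectiveResolution M)
  have hg : (injectiveResolution M).ι.f 0 ≫ φ.f 0 = g ≫ (injectiveResolution M').ι.f 0 :=
    InjectiveResolution.desc_commutes_zero g _ _
  obtain ⟨s, rfl⟩ := θ_surjective (cvV h h' f V U hle) (injectiveResolution M) hM hcov q x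
  rw [← θ_natural (cvV h h' f V U hle) (injectiveResolution M) hM hM' φ hg q s]
  refine (ηR_θ f V U hle (injectiveResolution M') hM' hcov q _).trans ?_
  refine (ρ_natural f V U hle (injectiveResolution M) φ hg q s).trans ?_
  exact congrArg (((FSch.RpushF f h h' q).map g).val.app (op V)).hom
    (ηR_θ f V U hle (injectiveResolution M) hM hcov q s).symm

lemma η_bijective (q : ℕ) {M : FSch.ModF 𝔛 h} (hM : Acyclic U (TS M))
    (hR : ∀ q, AcV ((FSch.RpushF f h h' q).obj M) V) : Function.Bijective (η (h' := h') f V U hle hcov q M hM) := by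
  refine ⟨(injective_iff_map_eq_zero _).2 fun x hx => ?_, fun y => ?_⟩
  · obtain ⟨s, rfl⟩ := θ_surjective (cvV h h' f V U hle) (injectiveResolution M) hM hcov q x
    have hx' : ρ f V U hle (injectiveResolution M) q s = 0 := (ηR_θ f V U hle _ hM hcov q s).symm.trans hx
    cases q with
    | zero => rw [ρ_zero_injective f V U hle (injectiveResolution M) (hx'.trans (map_zero _).symm), map_zero]
    | succ j =>
      obtain ⟨t, rfl⟩ := ρ_succ_eq_zero f V U hle (injectiveResolution M) hR j s hx'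
      exact θ_zq (cvV h h' f V U hle) (injectiveResolution M) hM j t
  · obtain ⟨s, rfl⟩ := ρ_surjective f V U hle (injectiveResolution M) hR q y
    exact ⟨θ (cvV h h' f V U hle) (injectiveResolution M) hM q s, ηR_θ f V U hle _ hM hcov q s⟩

end Groth.Agent.FRel
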