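import Groth.Agent.FRelLib.Restrict
import Groth.Agent.FRelLib.Eta
import Groth.Agent.FProperLib.Lin
import Groth.Agent.S3855

/-!
# The part of a morphism over an affine open as a morphism to an affine formal scheme
-/

set_option autoImplicit false
set_option linter.style.haveILetI false
set_option linter.unusedSectionVars false
set_option backward.isDefEq.respectTransparency false
set_option backward.isDefEq.respectTransparency.types false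
set_option maxHeartbeats 1000000

universe u

open CategoryTheory CategoryTheory.Limits AlgebraicGeometry TopologicalSpace Opposite

noncomputable section

namespace Groth.Agent.FRel

open Groth.Agent.FCompl Groth.Agent.FProper

lemma isProper_resLE {X Y : Scheme.{u}} (f : X ⟶ Y) [IsProper f] (V : Y.Opens) (V' : X.Opens)
    (hV : V' = f ⁻¹ᵁ V) (e : V' ≤ f ⁻¹ᵁ V) : IsProper (f.resLE V V' e) := by
  subst hV
  rw [AlgebraicGeometry.Scheme.Hom.resLE_eq_morphismRestrict]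
  exact MorphismProperty.of_isPullback (P := @IsProper) (isPullback_morphismRestrict f V).flip inferInstance

lemma toSpecΓ_map_appLE {X : Scheme.{u}} (U : X.Opens) {R : CommRingCat.{u}} (χ : R ⟶ Γ(X, U))
    (Z : U.toScheme.Opens) :
    (Scheme.ΓSpecIso R).inv ≫ (U.toSpecΓ ≫ Spec.map χ).appLE ⊤ Z (fun _ _ => trivial) =
      χ ≫ U.ι.appLE U Z (fun z _ => z.2) := by
  rw [show (U.toSpecΓ ≫ Spec.map χ).appLE ⊤ Z (fun _ _ => trivial) =
    (U.toSpecΓ ≫ Spec.map χ).appTop ≫ U.toScheme.presheaf.map (homOfLE le_top).op from rfl,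
    Scheme.Hom.comp_appTop, Category.assoc, ← Scheme.ΓSpecIso_inv_naturality_assoc,
    Scheme.Opens.toSpecΓ_appTop, Category.assoc, Iso.inv_hom_id_assoc, Scheme.Opens.ι_appLE]
  refine congrArg (χ ≫ ·) ?_
  show X.presheaf.map _ ≫ X.presheaf.map _ = _
  rw [← Functor.map_comp]
  rfl

section Base

variable {𝔜 : FSch.Sys.{u}} (h' : 𝔜.IsFormal) {V : (𝔜.X 0).Opens} (hL' : 𝔜.IsLocNoethFormal) (hV : IsAffineOpen V)

/-- The level ring as a quotient. -/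
def qV (n : ℕ) : OR 𝔜 h' V ⧸ II 𝔜 h' V ^ (n + 1) →+* LR 𝔜 h' V n :=
  Ideal.Quotient.lift _ (pr 𝔜 h' V n) fun x hx => by
    rw [← ker_pr hL' hV n] at hx
    exact hx

lemma qV_bijective (n : ℕ) : Function.Bijective (qV h' hL' hV n) := by
  refine ⟨?_, Ideal.Quotient.lift_surjective_of_surjective _ _ (pr_surjective hL' hV n)⟩
  rw [injective_iff_map_eq_zero]
  intro x hx
  obtain ⟨a, rfl⟩ := Ideal.Quotient.mk_surjective x
  rw [Ideal.Quotient.eq_zero_iff_mem, ← ker_pr hL' hV n]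
  exact hx

/-- A level of an affine open as a spectrum. -/
def gV0 (n : ℕ) : (𝔜.lvU h' n V).toScheme ⟶ Spec (CommRingCat.of (OR 𝔜 h' V ⧸ II 𝔜 h' V ^ (n + 1))) :=
  (𝔜.lvU h' n V).toSpecΓ ≫ Spec.map (CommRingCat.ofHom (qV h' hL' hV n))

lemma isIso_gV0 (n : ℕ) : IsIso (gV0 h' hL' hV n) := by
  haveI : IsIso (𝔜.lvU h' n V).toSpecΓ := by
    rw [← (affine_lvU (h := h') hV n).isoSpec_hom]
    infer_instance
  haveI : IsIso (CommRingCat.ofHom (qV h' hL' hV n)) :=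
    (RingEquiv.ofBijective _ (qV_bijective h' hL' hV n)).toCommRingCatIso.isIso_hom
  unfold gV0
  infer_instance

lemma gV0_comm (n : ℕ) : (𝔜.restrictOpen h' V).ι n ≫ gV0 h' hL' hV (n + 1) =
    gV0 h' hL' hV n ≫ (FSch.spf (OR 𝔜 h' V) (II 𝔜 h' V)).ι n := by
  show (𝔜.ι n).resLE _ _ _ ≫ (𝔜.lvU h' (n + 1) V).toSpecΓ ≫ _ = ((𝔜.lvU h' n V).toSpecΓ ≫ _) ≫ Spec.map _
  rw [← Scheme.Opens.toSpecΓ_SpecMap_appLE_assoc, Category.assoc]
  refine congrArg ((𝔜.lvU h' n V).toSpecΓ ≫ ·) ?_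
  rw [← Spec.map_comp, ← Spec.map_comp]
  refine congrArg Spec.map (CommRingCat.hom_ext (Ideal.Quotient.ringHom_ext (RingHom.ext fun a => ?_)))
  exact tr_pr 𝔜 h' V n a

/-- An affine open as an affine formal scheme. -/
def gV : 𝔜.restrictOpen h' V ⟶ FSch.spf (OR 𝔜 h' V) (II 𝔜 h' V) :=
  ⟨gV0 h' hL' hV, fun n => (gV0_comm h' hL' hV n).symm⟩

include hL' hV in
lemma isLocNoeth_spf : (FSch.spf (OR 𝔜 h' V) (II 𝔜 h' V)).IsLocNoethFormal := by
  haveI := FCompl.noetherian (h := h') hL' hV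
  exact S3855.result (OR 𝔜 h' V) (II 𝔜 h' V)

lemma gV0_spfToSpec (n : ℕ) : gV0 h' hL' hV n ≫ FSch.spfToSpec (OR 𝔜 h' V) (II 𝔜 h' V) n =
    (𝔜.lvU h' n V).toSpecΓ ≫ Spec.map (CommRingCat.ofHom (pr 𝔜 h' V n)) := by
  show ((𝔜.lvU h' n V).toSpecΓ ≫ _) ≫ Spec.map _ = _
  rw [Category.assoc, ← Spec.map_comp]
  rfl

end Base

variable {𝔛 𝔜 : FSch.Sys.{u}} (h : 𝔛.IsFormal) (h' : 𝔜.IsFormal) (f : 𝔛 ⟶ 𝔜) {V : (𝔜.X 0).Opens}
  (hL' : 𝔜.IsLocNoethFormal) (hV : IsAffineOpen V)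

/-- The part of a morphism over an affine open. -/
def fV : 𝔛r 𝔛 h (preV f V) ⟶ FSch.spf (OR 𝔜 h' V) (II 𝔜 h' V) := FSch.Hom.restrictOpen f h h' V ≫ gV h' hL' hV

lemma fV_app (n : ℕ) : (fV h h' f hL' hV : FSch.Hom _ _).app n =
    (FSch.Hom.restrictOpen f h h' V : FSch.Hom _ _).app n ≫ gV0 h' hL' hV n := rfl

theorem isProperHom_fV (hf : FSch.IsProperHom f) : FSch.IsProperHom (fV h h' f hL' hV) := by
  refine ⟨fun n => ?_, ?_⟩
  · haveI := isIso_gV0 h' hL' hV n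
    haveI := isIso_gV0 h' hL' hV (n + 1)
    have h1 : IsPullback ((𝔛r 𝔛 h (preV f V)).ι n) ((FSch.Hom.restrictOpen f h h' V : FSch.Hom _ _).app n)
        ((FSch.Hom.restrictOpen f h h' V : FSch.Hom _ _).app (n + 1)) ((𝔜.restrictOpen h' V).ι n) :=
      AlgebraicGeometry.Scheme.Hom.isPullback_resLE (hf.1 n)
        (US := 𝔜.lvU h' (n + 1) V) (UT := 𝔜.lvU h' n V)
        (UX := 𝔛.lvU h (n + 1) (preV f V)) (UY := 𝔛.lvU h n (preV f V))
        (𝔜.lvU_le h' n V) (FSch.Hom.lvU_preimage f h h' (n + 1) V).ge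
        (by rw [FSch.Sys.lvU_succ, FSch.Hom.lvU_preimage f h h', inf_idem])
    haveI : IsIso ((gV h' hL' hV : FSch.Hom _ _).app n) := isIso_gV0 h' hL' hV n
    haveI : IsIso ((gV h' hL' hV : FSch.Hom _ _).app (n + 1)) := isIso_gV0 h' hL' hV (n + 1)
    exact h1.paste_vert (IsPullback.of_vert_isIso ⟨gV0_comm h' hL' hV n⟩)
  · haveI := hf.2
    haveI := isIso_gV0 h' hL' hV 0
    haveI : IsProper ((FSch.Hom.restrictOpen f h h' V : FSch.Hom _ _).app 0) :=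
      isProper_resLE _ _ _ (FSch.Hom.lvU_preimage f h h' 0 V).symm _
    rw [fV_app]
    exact MorphismProperty.comp_mem _ _ _ ‹_› inferInstance

lemma img_le (U : ((𝔛r 𝔛 h (preV f V)).X 0).Opens) : img 𝔛 h (preV f V) U ≤ preV f V := by
  rintro _ ⟨z, -, rfl⟩
  exact (SetLike.ext_iff.1 (toX_lvU (n := 0) (h := h) (preV f V)) z.1).1 z.2

lemma ψU_fV (U : ((𝔛r 𝔛 h (preV f V)).X 0).Opens) (a : OR 𝔜 h' V) :
    ψU (II 𝔜 h' V) (fV h h' f hL' hV) (hr 𝔛 h (preV f V)) U a =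
      jE 𝔛 h (preV f V) U (rsO 𝔛 h (img_le h f U) (shV h h' f V a)) := by
  refine osh_ext fun n => ?_
  rw [pr_ψU, jE_apply, pr_jJ, pr_rsO]
  have e0 : pr 𝔛 h (preV f V) n (shV h h' f V a) =
      (((f : FSch.Hom 𝔛 𝔜).app n).appLE (𝔜.lvU h' n V) (𝔛.lvU h n (preV f V))
        (FSch.Hom.lvU_preimage f h h' n V).ge).hom (pr 𝔜 h' V n a) :=
    congr($(FSch.Hom.sharp_proj f h h' n).hom.app (op V) a)
  rw [e0]
  let χ : CommRingCat.of (OR 𝔜 h' V) ⟶ Γ(𝔛.X n, 𝔛.lvU h n (preV f V)) :=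
    CommRingCat.ofHom (pr 𝔜 h' V n) ≫ ((f : FSch.Hom 𝔛 𝔜).app n).appLE (𝔜.lvU h' n V) (𝔛.lvU h n (preV f V))
      (FSch.Hom.lvU_preimage f h h' n V).ge
  have e1 : pA (II 𝔜 h' V) (fV h h' f hL' hV) n = (𝔛.lvU h n (preV f V)).toSpecΓ ≫ Spec.map χ := by
    show ((FSch.Hom.restrictOpen f h h' V : FSch.Hom _ _).app n ≫ gV0 h' hL' hV n) ≫ _ = _
    rw [Category.assoc, gV0_spfToSpec, Spec.map_comp, Scheme.Opens.toSpecΓ_SpecMap_appLE_assoc]
    rfl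
  have hle : ∀ W' : (𝔛.lvU h n (preV f V)).toScheme.Opens, W' ≤
      (𝔛.lvU h n (preV f V)).ι ⁻¹ᵁ 𝔛.lvU h n (preV f V) := fun W' z _ => z.2
  refine Eq.trans ?_ ((congr($(toSpecΓ_map_appLE (𝔛.lvU h n (preV f V)) χ
    ((𝔛r 𝔛 h (preV f V)).lvU (hr 𝔛 h (preV f V)) n U)) a)).trans ?_)
  · simp only [e1]
    rfl
  · exact (congr($(Scheme.Hom.map_appLE (𝔛.lvU h n (preV f V)).ι (lvU_preimage_img 𝔛 h (preV f V) n U).ge
      (homOfLE (lvU_mono 𝔛 h (img_le h f U) n)).op) (χ.hom a))).symm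

end Groth.Agent.FRel
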