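import Groth.Agent.FProperLib.CochFil

/-!
# Čech cochains on an open of a formal scheme as modules over a ring acting on that open
-/

set_option autoImplicit false
set_option linter.style.haveILetI false
set_option linter.unusedSectionVars false
set_option backward.isDefEq.respectTransparency false
set_option backward.isDefEq.respectTransparency.types false
set_option maxHeartbeats 1000000

universe u

open CategoryTheory CategoryTheory.Limits AlgebraicGeometry TopologicalSpace Opposite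
open Groth.Agent.CohBase

noncomputable section

namespace Groth.Agent.FRel

open Groth.Agent.FCompl Groth.Agent.FProper

/-- An open with a ring acting on it and a covering family. -/
structure Cv (A : Type u) [CommRing A] {𝔛 : FSch.Sys.{u}} (h : 𝔛.IsFormal) where
  /-- The open. -/
  W : (𝔛.X 0).Opens
  /-- The action. -/
  ψ : A →+* OR 𝔛 h W
  /-- The indices. -/
  ι : Type u
  /-- The family. -/
  U : ι → (𝔛.X 0).Opens
  le : ∀ i, U i ≤ W

variable {A : Type u} [CommRing A] {𝔛 : FSch.Sys.{u}} {h : 𝔛.IsFormal} (D : Cv A h)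

lemma Cv.inter_le {q : ℕ} (i : Fin (q + 1) → D.ι) : inter D.U i ≤ D.W := (CohBase.inter_le D.U i 0).trans (D.le _)

/-- The action on a smaller open. -/
def Cv.act {Z : (𝔛.X 0).Opens} (hZ : Z ≤ D.W) : A →+* OR 𝔛 h Z := (rsO 𝔛 h hZ).comp D.ψ

lemma Cv.rsO_act {Z Z' : (𝔛.X 0).Opens} (hZ : Z ≤ D.W) (hZ' : Z' ≤ Z) (a : A) :
    rsO 𝔛 h hZ' (D.act hZ a) = D.act (hZ'.trans hZ) a := rsO_rsO _ _ _

/-- Cochains. -/
def CW (D : Cv A h) (q : ℕ) (M : FSch.ModF 𝔛 h) : Type u := CC D.U (TS M).obj q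

instance addCommGroupCW (q : ℕ) (M : FSch.ModF 𝔛 h) : AddCommGroup (CW D q M) :=
  inferInstanceAs (AddCommGroup (CC D.U (TS M).obj q))

/-- A component. -/
def cpW {q : ℕ} {M : FSch.ModF 𝔛 h} (z : CW D q M) (i : Fin (q + 1) → D.ι) : M.val.obj (op (inter D.U i)) :=
  (show CC D.U (TS M).obj q from z) i

/-- A cochain from its components. -/
def mkW {q : ℕ} {M : FSch.ModF 𝔛 h} (c : ∀ i : Fin (q + 1) → D.ι, M.val.obj (op (inter D.U i))) : CW D q M :=
  (show CC D.U (TS M).obj q from c)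

lemma cpW_mkW {q : ℕ} {M : FSch.ModF 𝔛 h} (c : ∀ i : Fin (q + 1) → D.ι, M.val.obj (op (inter D.U i))) (i) :
    cpW D (mkW D c) i = c i := rfl

lemma cpW_ext {q : ℕ} {M : FSch.ModF 𝔛 h} {z w : CW D q M} (H : ∀ i, cpW D z i = cpW D w i) : z = w := funext H

lemma cpW_zero {q : ℕ} {M : FSch.ModF 𝔛 h} (i : Fin (q + 1) → D.ι) : cpW D (0 : CW D q M) i = 0 := rfl

lemma cpW_add {q : ℕ} {M : FSch.ModF 𝔛 h} (z w : CW D q M) (i : Fin (q + 1) → D.ι) :
    cpW D (z + w) i = cpW D z i + cpW D w i := rfl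

lemma cpW_sub {q : ℕ} {M : FSch.ModF 𝔛 h} (z w : CW D q M) (i : Fin (q + 1) → D.ι) :
    cpW D (z - w) i = cpW D z i - cpW D w i := rfl

instance smulCW (q : ℕ) (M : FSch.ModF 𝔛 h) : SMul A (CW D q M) :=
  ⟨fun a z => mkW D fun i => D.act (D.inter_le i) a • cpW D z i⟩

lemma cpW_smul {q : ℕ} {M : FSch.ModF 𝔛 h} (a : A) (z : CW D q M) (i : Fin (q + 1) → D.ι) :
    cpW D (a • z) i = D.act (D.inter_le i) a • cpW D z i := rfl

instance moduleCW (q : ℕ) (M : FSch.ModF 𝔛 h) : Module A (CW D q M) :=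
  Module.ofMinimalAxioms
    (fun a z w => cpW_ext D fun i => by rw [cpW_smul, cpW_add, smul_add]; rfl)
    (fun a b z => cpW_ext D fun i => by rw [cpW_add, cpW_smul, cpW_smul, cpW_smul, map_add, add_smul])
    (fun a b z => cpW_ext D fun i => by rw [cpW_smul, cpW_smul, cpW_smul, map_mul, mul_smul])
    (fun z => cpW_ext D fun i => by rw [cpW_smul, map_one, one_smul])

lemma cpW_sum {q : ℕ} {M : FSch.ModF 𝔛 h} {κ : Type*} (s : Finset κ) (b : κ → CW D q M) (i : Fin (q + 1) → D.ι) :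
    cpW D (∑ l ∈ s, b l) i = ∑ l ∈ s, cpW D (b l) i :=
  map_sum (AddMonoidHom.mk' (fun z : CW D q M => cpW D z i) fun _ _ => rfl) b s

lemma res_smul_act {M : FSch.ModF 𝔛 h} {Z Z' : (𝔛.X 0).Opens} (hZ : Z ≤ D.W) (hZ' : Z' ≤ Z) (a : A)
    (x : M.val.obj (op Z)) :
    res (TS M).obj hZ' (show (TS M).obj.obj (op Z) from D.act hZ a • x) =
      (show (TS M).obj.obj (op Z') from
        D.act (hZ'.trans hZ) a • (show M.val.obj (op Z') from res (TS M).obj hZ' x)) := by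
  refine (PresheafOfModules.map_smul M.val (homOfLE hZ').op (D.act hZ a) x).trans ?_
  show rsO 𝔛 h hZ' (D.act hZ a) • _ = _
  rw [D.rsO_act]
  rfl

/-- The differential. -/
def dW (q : ℕ) (M : FSch.ModF 𝔛 h) : CW D q M →ₗ[A] CW D (q + 1) M where
  toFun z := cdiff D.U (TS M).obj q z
  map_add' := map_add (cdiff D.U (TS M).obj q)
  map_smul' a z := cpW_ext D fun i => by
    let σ : (TS M).obj.obj (op (inter D.U i)) →+ (TS M).obj.obj (op (inter D.U i)) :=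
      DistribSMul.toAddMonoidHom (M.val.obj (op (inter D.U i))) (D.act (D.inter_le i) a)
    show cdiff D.U (TS M).obj q (a • z : CW D q M) i = σ (cdiff D.U (TS M).obj q z i)
    rw [cdiff_apply, cdiff_apply, map_sum]
    refine Finset.sum_congr rfl fun j _ => ?_
    rw [map_zsmul]
    exact congrArg (fun x => (-1 : ℤ) ^ (j : ℕ) • x)
      (res_smul_act D (D.inter_le (i ∘ j.succAbove)) (inter_comp_le D.U i j.succAbove) a _)

lemma dW_apply (q : ℕ) (M : FSch.ModF 𝔛 h) (z : CW D q M) : dW D q M z = cdiff D.U (TS M).obj q z := rfl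

lemma dW_dW (q : ℕ) (M : FSch.ModF 𝔛 h) (z : CW D q M) : dW D (q + 1) M (dW D q M z) = 0 :=
  cdiff_cdiff _ _ _

/-- Functoriality of cochains. -/
def CWmap (q : ℕ) {M N : FSch.ModF 𝔛 h} (g : M ⟶ N) : CW D q M →ₗ[A] CW D q N where
  toFun z := mkW D fun i => (g.val.app (op (inter D.U i))).hom (cpW D z i)
  map_add' z w := cpW_ext D fun i => by simp only [cpW_mkW, cpW_add, map_add]
  map_smul' a z := cpW_ext D fun i => by
    simp only [cpW_mkW, cpW_smul, RingHom.id_apply]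
    exact (g.val.app (op (inter D.U i))).hom.map_smul _ _

lemma cpW_CWmap {q : ℕ} {M N : FSch.ModF 𝔛 h} (g : M ⟶ N) (z : CW D q M) (i : Fin (q + 1) → D.ι) :
    cpW D (CWmap D q g z) i = (g.val.app (op (inter D.U i))).hom (cpW D z i) := rfl

lemma dW_CWmap (q : ℕ) {M N : FSch.ModF 𝔛 h} (g : M ⟶ N) (z : CW D q M) :
    dW D q N (CWmap D q g z) = CWmap D (q + 1) g (dW D q M z) :=
  cdiff_ccMap D.U ((SheafOfModules.toSheaf (ModSite.ringSh (𝔛.Osh h))).map g).hom q z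

lemma CWmap_comp (q : ℕ) {M N P : FSch.ModF 𝔛 h} (g : M ⟶ N) (g' : N ⟶ P) (z : CW D q M) :
    CWmap D q (g ≫ g') z = CWmap D q g' (CWmap D q g z) := rfl

lemma CWmap_id (q : ℕ) {M : FSch.ModF 𝔛 h} (z : CW D q M) : CWmap D q (𝟙 M) z = z := rfl

/-- The boundaries. -/
def bdW (D : Cv A h) : ∀ (q : ℕ) (M : FSch.ModF 𝔛 h), Submodule A (CW D q M)
  | 0, _ => ⊥
  | r + 1, M => LinearMap.range (dW D r M)

lemma bdW_map (q : ℕ) {M N : FSch.ModF 𝔛 h} (g : M ⟶ N) {z : CW D q M} (hz : z ∈ bdW D q M) :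
    CWmap D q g z ∈ bdW D q N := by
  cases q with
  | zero => exact (congrArg (CWmap D 0 g) ((Submodule.mem_bot A).1 hz)).trans (map_zero _)
  | succ r =>
    obtain ⟨b, rfl⟩ := hz
    exact ⟨CWmap D r g b, dW_CWmap D r g b⟩

lemma dW_bdW (q : ℕ) {M : FSch.ModF 𝔛 h} {z : CW D q M} (hz : z ∈ bdW D q M) : dW D q M z = 0 := by
  cases q with
  | zero => exact (congrArg (dW D 0 M) ((Submodule.mem_bot A).1 hz)).trans (map_zero _)
  | succ r =>
    obtain ⟨b, rfl⟩ := hz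
    exact dW_dW D r M b

/-- Čech cohomology. -/
abbrev HW (q : ℕ) (M : FSch.ModF 𝔛 h) : Type u :=
  ↥(LinearMap.ker (dW D q M)) ⧸ (bdW D q M).comap (LinearMap.ker (dW D q M)).subtype

/-- The class of a cocycle. -/
abbrev cW {q : ℕ} {M : FSch.ModF 𝔛 h} : ↥(LinearMap.ker (dW D q M)) →ₗ[A] HW D q M := Submodule.mkQ _

lemma cW_eq_zero {q : ℕ} {M : FSch.ModF 𝔛 h} (z : ↥(LinearMap.ker (dW D q M))) :
    cW D z = 0 ↔ z.1 ∈ bdW D q M := Submodule.Quotient.mk_eq_zero _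

lemma cW_surjective {q : ℕ} {M : FSch.ModF 𝔛 h} : Function.Surjective (cW D (q := q) (M := M)) :=
  Submodule.mkQ_surjective _

/-- A map on cocycles. -/
def ZWmap (q : ℕ) {M N : FSch.ModF 𝔛 h} (g : M ⟶ N) :
    ↥(LinearMap.ker (dW D q M)) →ₗ[A] ↥(LinearMap.ker (dW D q N)) :=
  (CWmap D q g).restrict fun z hz => by
    rw [LinearMap.mem_ker, dW_CWmap, LinearMap.mem_ker.1 hz, map_zero]

lemma ZWmap_val (q : ℕ) {M N : FSch.ModF 𝔛 h} (g : M ⟶ N) (z : ↥(LinearMap.ker (dW D q M))) :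
    (ZWmap D q g z).1 = CWmap D q g z.1 := rfl

/-- Functoriality of Čech cohomology. -/
def HWmap (q : ℕ) {M N : FSch.ModF 𝔛 h} (g : M ⟶ N) : HW D q M →ₗ[A] HW D q N :=
  Submodule.mapQ _ _ (ZWmap D q g) fun _ hz => bdW_map D q g hz

lemma HWmap_cW (q : ℕ) {M N : FSch.ModF 𝔛 h} (g : M ⟶ N) (z : ↥(LinearMap.ker (dW D q M))) :
    HWmap D q g (cW D z) = cW D (ZWmap D q g z) := rfl

lemma HWmap_comp (q : ℕ) {M N P : FSch.ModF 𝔛 h} (g : M ⟶ N) (g' : N ⟶ P) (x : HW D q M) :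
    HWmap D q (g ≫ g') x = HWmap D q g' (HWmap D q g x) := by
  obtain ⟨z, rfl⟩ := cW_surjective D x
  rfl

/-- A short exact sequence surjective on the intersections. -/
structure SurjSeq (D : Cv A h) (S : ShortComplex (FSch.ModF 𝔛 h)) : Prop where
  se : S.ShortExact
  surj : ∀ (m : ℕ) (i : Fin (m + 1) → D.ι), Function.Surjective (S.g.val.app (op (inter D.U i))).hom

variable {S : ShortComplex (FSch.ModF 𝔛 h)} (hS : SurjSeq D S)

include hS

lemma CWf_injective (q : ℕ) : Function.Injective (CWmap D q S.f) :=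
  ccMap_injective D.U (toSheaf_SE hS.se) q

lemma CWg_surjective (q : ℕ) : Function.Surjective (CWmap D q S.g) := fun c => by
  choose y hy using fun i => hS.surj q i (cpW D c i)
  exact ⟨mkW D y, cpW_ext D hy⟩

lemma CW_exact (q : ℕ) {z : CW D q S.X₂} (hz : CWmap D q S.g z = 0) : ∃ w, CWmap D q S.f w = z :=
  ccMap_exact D.U (toSheaf_SE hS.se) z hz

omit hS in
lemma CWg_f (hS : S.ShortExact) (q : ℕ) (w : CW D q S.X₁) : CWmap D q S.g (CWmap D q S.f w) = 0 :=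
  ccMap_comp D.U (toSheaf_SE hS) w

lemma exists_conn (q : ℕ) (z : ↥(LinearMap.ker (dW D q S.X₃))) :
    ∃ (y : CW D q S.X₂) (w : ↥(LinearMap.ker (dW D (q + 1) S.X₁))),
      CWmap D q S.g y = z.1 ∧ CWmap D (q + 1) S.f w.1 = dW D q S.X₂ y := by
  obtain ⟨y, hy⟩ := CWg_surjective D hS q z.1
  obtain ⟨w, hw⟩ := CW_exact D hS (q + 1) (z := dW D q S.X₂ y) (by
    rw [← dW_CWmap, hy, LinearMap.mem_ker.1 z.2])
  refine ⟨y, ⟨w, ?_⟩, hy, hw⟩
  rw [LinearMap.mem_ker]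
  refine CWf_injective D hS (q + 1 + 1) ?_
  rw [← dW_CWmap, hw, dW_dW, map_zero]

lemma conn_unique (q : ℕ) {y y' : CW D q S.X₂} {w w' : ↥(LinearMap.ker (dW D (q + 1) S.X₁))}
    (hy : CWmap D q S.g y - CWmap D q S.g y' ∈ bdW D q S.X₃) (hw : CWmap D (q + 1) S.f w.1 = dW D q S.X₂ y)
    (hw' : CWmap D (q + 1) S.f w'.1 = dW D q S.X₂ y') : cW D w = cW D w' := by
  rw [← sub_eq_zero, ← map_sub, cW_eq_zero]
  rw [← map_sub] at hy
  have hd : CWmap D (q + 1) S.f (w - w').1 = dW D q S.X₂ (y - y') := by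
    rw [map_sub, ← hw, ← hw', ← map_sub]
    rfl
  obtain ⟨e, he, hge⟩ : ∃ e, dW D q S.X₂ e = 0 ∧ CWmap D q S.g (y - y' - e) = 0 := by
    cases q with
    | zero => exact ⟨0, map_zero _, by rw [sub_zero]; exact (Submodule.mem_bot A).1 hy⟩
    | succ r =>
      obtain ⟨b, hb⟩ := hy
      obtain ⟨b', rfl⟩ := CWg_surjective D hS r b
      exact ⟨dW D r S.X₂ b', dW_dW D r S.X₂ b', by rw [map_sub, ← dW_CWmap, hb, sub_self]⟩
  obtain ⟨v, hv⟩ := CW_exact D hS q hge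
  refine ⟨v, CWf_injective D hS (q + 1) ?_⟩
  rw [hd, ← dW_CWmap, hv, map_sub, he, sub_zero]

/-- The connecting map on cocycles. -/
def δ0 (q : ℕ) (z : ↥(LinearMap.ker (dW D q S.X₃))) : HW D (q + 1) S.X₁ :=
  cW D (exists_conn D hS q z).choose_spec.choose

lemma δ0_eq (q : ℕ) (z : ↥(LinearMap.ker (dW D q S.X₃))) {y : CW D q S.X₂}
    {w : ↥(LinearMap.ker (dW D (q + 1) S.X₁))} (hy : CWmap D q S.g y - z.1 ∈ bdW D q S.X₃)
    (hw : CWmap D (q + 1) S.f w.1 = dW D q S.X₂ y) : δ0 D hS q z = cW D w := by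
  obtain ⟨h1, h2⟩ := (exists_conn D hS q z).choose_spec.choose_spec
  refine conn_unique D hS q ?_ h2 hw
  rw [h1, ← neg_sub]
  exact neg_mem hy

/-- The connecting map, linearly. -/
def δ1 (q : ℕ) : ↥(LinearMap.ker (dW D q S.X₃)) →ₗ[A] HW D (q + 1) S.X₁ where
  toFun := δ0 D hS q
  map_add' z z' := by
    obtain ⟨y, w, h1, h2⟩ := exists_conn D hS q z
    obtain ⟨y', w', h1', h2'⟩ := exists_conn D hS q z'
    rw [δ0_eq D hS q z (by rw [h1, sub_self]; exact zero_mem _) h2,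
      δ0_eq D hS q z' (by rw [h1', sub_self]; exact zero_mem _) h2', ← map_add]
    refine δ0_eq D hS q (z + z') (y := y + y') ?_ ?_
    · rw [map_add, h1, h1', Submodule.coe_add, sub_self]; exact zero_mem _
    · rw [Submodule.coe_add, map_add, map_add, h2, h2']
  map_smul' a z := by
    obtain ⟨y, w, h1, h2⟩ := exists_conn D hS q z
    rw [δ0_eq D hS q z (by rw [h1, sub_self]; exact zero_mem _) h2, RingHom.id_apply, ← map_smul]
    refine δ0_eq D hS q (a • z) (y := a • y) ?_ ?_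
    · rw [map_smul, h1, Submodule.coe_smul, sub_self]; exact zero_mem _
    · rw [Submodule.coe_smul, map_smul, map_smul, h2]

/-- The connecting map of Čech cohomology. -/
def δW (q : ℕ) : HW D q S.X₃ →ₗ[A] HW D (q + 1) S.X₁ :=
  Submodule.liftQ _ (δ1 D hS q) fun z hz => by
    rw [LinearMap.mem_ker]
    refine (δ0_eq D hS q z (y := 0) (w := 0) ?_ ?_).trans (map_zero _)
    · rw [map_zero, zero_sub]; exact neg_mem hz
    · rw [map_zero, Submodule.coe_zero, map_zero]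

lemma δW_cW (q : ℕ) (z : ↥(LinearMap.ker (dW D q S.X₃))) {y : CW D q S.X₂}
    {w : ↥(LinearMap.ker (dW D (q + 1) S.X₁))} (hy : CWmap D q S.g y = z.1)
    (hw : CWmap D (q + 1) S.f w.1 = dW D q S.X₂ y) : δW D hS q (cW D z) = cW D w :=
  δ0_eq D hS q z (by rw [hy, sub_self]; exact zero_mem _) hw

lemma δW_eq_zero (q : ℕ) (x : HW D q S.X₃) (hx : δW D hS q x = 0) : ∃ y, HWmap D q S.g y = x := by
  obtain ⟨z, rfl⟩ := cW_surjective D x
  obtain ⟨y, w, h1, h2⟩ := exists_conn D hS q z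
  rw [δW_cW D hS q z h1 h2, cW_eq_zero] at hx
  obtain ⟨v, hv⟩ := hx
  refine ⟨cW D ⟨y - CWmap D q S.f v, ?_⟩, ?_⟩
  · rw [LinearMap.mem_ker, map_sub, dW_CWmap, hv, h2, sub_self]
  · rw [HWmap_cW]
    refine congrArg (cW D) (Subtype.ext ?_)
    rw [ZWmap_val, map_sub, CWg_f D hS.se, sub_zero, h1]

lemma δW_HWmap (q : ℕ) (x : HW D q S.X₂) : δW D hS q (HWmap D q S.g x) = 0 := by
  obtain ⟨z, rfl⟩ := cW_surjective D x
  refine (δW_cW D hS q (ZWmap D q S.g z) (y := z.1) (w := 0) rfl ?_).trans (map_zero _)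
  rw [Submodule.coe_zero, map_zero, LinearMap.mem_ker.1 z.2]

lemma δW_surjective (q : ℕ) (h0 : Subsingleton (HW D (q + 1) S.X₂)) : Function.Surjective (δW D hS q) := fun x => by
  obtain ⟨w, rfl⟩ := cW_surjective D x
  obtain ⟨y, hy⟩ := (cW_eq_zero D (ZWmap D (q + 1) S.f w)).1 (Subsingleton.elim _ _)
  refine ⟨cW D ⟨CWmap D q S.g y, ?_⟩, δW_cW D hS q _ rfl hy.symm⟩
  rw [LinearMap.mem_ker, dW_CWmap, hy, ZWmap_val, CWg_f D hS.se]

omit hS in
lemma δW_natural {S S' : ShortComplex (FSch.ModF 𝔛 h)} (hS : SurjSeq D S) (hS' : SurjSeq D S') (φ : S ⟶ S')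
    (q : ℕ) (x : HW D q S.X₃) : δW D hS' q (HWmap D q φ.τ₃ x) = HWmap D (q + 1) φ.τ₁ (δW D hS q x) := by
  obtain ⟨z, rfl⟩ := cW_surjective D x
  obtain ⟨y, w, h1, h2⟩ := exists_conn D hS q z
  rw [δW_cW D hS q z h1 h2]
  refine δW_cW D hS' q (ZWmap D q φ.τ₃ z) (y := CWmap D q φ.τ₂ y) (w := ZWmap D (q + 1) φ.τ₁ w) ?_ ?_
  · rw [ZWmap_val, ← h1, ← CWmap_comp, ← CWmap_comp, φ.comm₂₃]
  · rw [ZWmap_val, dW_CWmap, ← h2, ← CWmap_comp, ← CWmap_comp, φ.comm₁₂]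

end Groth.Agent.FRel
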