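import Groth.Agent.CohBase.Injective
import Groth.Agent.CohBase.Cartan
import Groth.Agent.LocZLib.Flasque

/-!
# Čech complexes of flasque sheaves are exact
-/

set_option autoImplicit false
set_option linter.style.haveILetI false
set_option backward.isDefEq.respectTransparency false
set_option backward.isDefEq.respectTransparency.types false

universe u

open CategoryTheory CategoryTheory.Limits TopologicalSpace Opposite
open Groth.Agent.CohBase

noncomputable section

namespace Groth.Agent.FRel

variable {X : TopCat.{u}} {ι : Type u} (U : ι → Opens X)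

/-- The Čech complex of a flasque sheaf is exact in positive degrees. -/
theorem flasque_cexact : ∀ (n : ℕ) (F : AbSh X) [TopCat.Sheaf.IsFlasque F], CExact U F.obj n := by
  intro n
  induction n with
  | zero =>
    intro F _ c hc
    obtain ⟨T, hT, rfl, hinj, -⟩ := LocZLib.exists_flasque_embedding F
    haveI := hinj
    obtain ⟨b', hb'⟩ := injective_cexact U T.X₂ 0 (ccMap U T.f.hom 1 c) (by rw [cdiff_ccMap, hc, map_zero])
    have hq : cdiff U T.X₃.obj 0 (ccMap U T.g.hom 0 b') = 0 := by
      rw [cdiff_ccMap, hb', ccMap_comp U hT]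
    obtain ⟨s, hs⟩ := aug_exact (V := iSup U) T.X₃ (le_iSup U) le_rfl _ hq
    haveI : Epi (T.g.hom.app (op (iSup U))) := TopCat.Sheaf.IsFlasque.epi_of_shortExact hT
    obtain ⟨t, ht⟩ := (AddCommGrpCat.epi_iff_surjective (T.g.hom.app (op (iSup U)))).mp inferInstance s
    have hd : ccMap U T.g.hom 0 (b' - aug U T.X₂.obj (le_iSup U) t) = 0 := by
      rw [map_sub, sub_eq_zero, ← hs, ← ht]
      funext i
      exact res_map T.g.hom _ t
    obtain ⟨b, hb⟩ := ccMap_exact U hT _ hd
    refine ⟨b, ccMap_injective U hT 1 ?_⟩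
    rw [← cdiff_ccMap, hb, map_sub, cdiff_aug, sub_zero, hb']
  | succ n ih =>
    intro F _ c hc
    obtain ⟨T, hT, rfl, hinj, hQ⟩ := LocZLib.exists_flasque_embedding F
    haveI := hinj
    haveI := hQ
    obtain ⟨b', hb'⟩ := injective_cexact U T.X₂ (n + 1) (ccMap U T.f.hom (n + 1 + 1) c)
      (by rw [cdiff_ccMap, hc, map_zero])
    obtain ⟨e, he⟩ := ih T.X₃ (ccMap U T.g.hom (n + 1) b') (by rw [cdiff_ccMap, hb', ccMap_comp U hT])
    have hsurj : ∀ i : Fin (n + 1) → ι, Function.Surjective (T.g.hom.app (op (inter U i))) := fun i => by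
      haveI : Epi (T.g.hom.app (op (inter U i))) := TopCat.Sheaf.IsFlasque.epi_of_shortExact hT
      exact (AddCommGrpCat.epi_iff_surjective _).mp inferInstance
    choose e' he' using fun i => hsurj i (e i)
    have hee : ccMap U T.g.hom n e' = e := funext he'
    have hd : ccMap U T.g.hom (n + 1) (b' - cdiff U T.X₂.obj n e') = 0 := by
      rw [map_sub, ← cdiff_ccMap, hee, he, sub_self]
    obtain ⟨b, hb⟩ := ccMap_exact U hT _ hd
    refine ⟨b, ccMap_injective U hT (n + 1 + 1) ?_⟩
    rw [← cdiff_ccMap, hb, map_sub, cdiff_cdiff, sub_zero, hb']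

end Groth.Agent.FRel
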