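import Groth.Agent.FRelLib.CechW
import Groth.Agent.FRelLib.Flasque
import Groth.Agent.FRelLib.Res
import Groth.Agent.FComplLib.RpushLevel

/-!
# Čech cohomology over the preimage of an open and sections of higher direct images
-/

set_option autoImplicit false
set_option linter.style.haveILetI false
set_option linter.unusedSectionVars false
set_option backward.isDefEq.respectTransparency false
set_option backward.isDefEq.respectTransparency.types false
set_option maxHeartbeats 1000000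

universe u

open CategoryTheory CategoryTheory.Limits AlgebraicGeometry TopologicalSpace Opposite
open Groth.Agent.CohBase

noncomputable section

namespace Groth.Agent.FRel

open Groth.Agent.FCompl Groth.Agent.FProper

variable {𝔛 𝔜 : FSch.Sys.{u}} {h : 𝔛.IsFormal} {h' : 𝔜.IsFormal}

lemma flasque_inj (I : FSch.ModF 𝔛 h) [Injective I] : TopCat.Sheaf.IsFlasque (X := (𝔛.X 0).carrier) (TS I) :=
  LocZLib.isFlasque_of_surjective _ fun {W V} hWV => SiteBase.surjective_map_of_injective _ I (homOfLE hWV)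

lemma acyclic_inj (I : FSch.ModF 𝔛 h) [Injective I] {ι : Type u} (U : ι → (𝔛.X 0).Opens) : Acyclic U (TS I) :=
  fun _ _ m => by
    haveI := flasque_inj I
    exact LocZLib.subsingleton_HU_flasque (X := (𝔛.X 0).carrier) _ m (TS I)

section Sections

variable {A : Type u} [CommRing A] (D : Cv A h)

/-- Sections over the open. -/
def SecW (D : Cv A h) (M : FSch.ModF 𝔛 h) : Type u := M.val.obj (op D.W)

instance addCommGroupSecW (M : FSch.ModF 𝔛 h) : AddCommGroup (SecW D M) :=
  inferInstanceAs (AddCommGroup (M.val.obj (op D.W)))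

instance moduleSecW (M : FSch.ModF 𝔛 h) : Module A (SecW D M) := Module.compHom (M.val.obj (op D.W)) D.ψ

/-- Functoriality of sections. -/
def SWmap {M N : FSch.ModF 𝔛 h} (g : M ⟶ N) : SecW D M →ₗ[A] SecW D N where
  toFun x := (g.val.app (op D.W)).hom x
  map_add' := map_add (g.val.app (op D.W)).hom
  map_smul' a x := (g.val.app (op D.W)).hom.map_smul (D.ψ a) x

lemma SWmap_comp {M N P : FSch.ModF 𝔛 h} (g : M ⟶ N) (g' : N ⟶ P) (x : SecW D M) :
    SWmap D (g ≫ g') x = SWmap D g' (SWmap D g x) := rfl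

/-- Sections as degree zero cochains. -/
def sec0 (M : FSch.ModF 𝔛 h) : SecW D M →ₗ[A] CW D 0 M where
  toFun x := aug D.U (TS M).obj D.le x
  map_add' := map_add (aug D.U (TS M).obj D.le)
  map_smul' a x := cpW_ext D fun i => by
    show res (TS M).obj _ (show (TS M).obj.obj (op D.W) from D.ψ a • (show M.val.obj (op D.W) from x)) =
      (show M.val.obj (op (inter D.U i)) from D.act (D.inter_le i) a •
        (show M.val.obj (op (inter D.U i)) from res (TS M).obj _ x))
    exact PresheafOfModules.map_smul M.val _ (D.ψ a) x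

lemma dW_sec0 (M : FSch.ModF 𝔛 h) (x : SecW D M) : dW D 0 M (sec0 D M x) = 0 :=
  cdiff_aug (TS M).obj D.le (show (TS M).obj.obj (op D.W) from x)

lemma sec0_natural {M N : FSch.ModF 𝔛 h} (g : M ⟶ N) (x : SecW D M) :
    CWmap D 0 g (sec0 D M x) = sec0 D N (SWmap D g x) := cpW_ext D fun _ =>
  (res_map ((SheafOfModules.toSheaf (ModSite.ringSh (𝔛.Osh h))).map g).hom _ x).symm

/-- Sections as classes of degree zero. -/
def sH0 (M : FSch.ModF 𝔛 h) : SecW D M →ₗ[A] HW D 0 M :=
  (cW D).comp ((sec0 D M).codRestrict _ fun x => dW_sec0 D M x)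

lemma sH0_natural {M N : FSch.ModF 𝔛 h} (g : M ⟶ N) (x : SecW D M) :
    HWmap D 0 g (sH0 D M x) = sH0 D N (SWmap D g x) :=
  congrArg (cW D) (Subtype.ext (sec0_natural D g x))

lemma sH0_bijective (hcov : D.W ≤ iSup D.U) (M : FSch.ModF 𝔛 h) : Function.Bijective (sH0 D M) := by
  refine ⟨fun x y e => ?_, fun x => ?_⟩
  · have e0 : sH0 D M (x - y) = 0 := by rw [map_sub, e, sub_self]
    have e' : sec0 D M (x - y) = 0 := (Submodule.mem_bot A).1 ((cW_eq_zero D _).1 e0)
    rw [map_sub, sub_eq_zero] at e'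
    exact aug_injective (TS M) D.le hcov e'
  · obtain ⟨z, rfl⟩ := cW_surjective D x
    obtain ⟨s, hs⟩ := aug_exact (TS M) D.le hcov z.1 (LinearMap.mem_ker.1 z.2)
    exact ⟨s, congrArg (cW D) (Subtype.ext hs)⟩

lemma subsingleton_HW_inj (q : ℕ) (I : FSch.ModF 𝔛 h) [Injective I] : Subsingleton (HW D (q + 1) I) := by
  haveI := flasque_inj I
  refine subsingleton_of_forall_eq 0 fun x => ?_
  obtain ⟨z, rfl⟩ := cW_surjective D x
  obtain ⟨b, hb⟩ := flasque_cexact (X := (𝔛.X 0).carrier) D.U q (TS I) z.1 (LinearMap.mem_ker.1 z.2)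
  exact (cW_eq_zero D z).2 ⟨b, hb⟩

lemma surjSeq_of_acyclic {S : ShortComplex (FSch.ModF 𝔛 h)} (hS : S.ShortExact) (hA : Acyclic D.U (TS S.X₁)) :
    SurjSeq D S := by
  refine ⟨hS, fun m i => ?_⟩
  haveI : Subsingleton (HU (inter D.U i) (S.map (SheafOfModules.toSheaf (ModSite.ringSh (𝔛.Osh h)))).X₁ 1) :=
    hA m i 0
  exact sections_surjective (toSheaf_SE hS) (inter D.U i)

variable {M : FSch.ModF 𝔛 h} (R : InjectiveResolution M) (hM : Acyclic D.U (TS M))

include hM in
lemma acyclic_Kz : ∀ j, Acyclic D.U (TS (Kz R j))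
  | 0 => fun n i m => by
    haveI := hM n i m
    exact Function.Surjective.subsingleton
      (f := hmap (inter D.U i) ((SheafOfModules.toSheaf (ModSite.ringSh (𝔛.Osh h))).map (toK0 R)) (m + 1))
      fun x => ⟨hmap (inter D.U i) ((SheafOfModules.toSheaf (ModSite.ringSh (𝔛.Osh h))).map (inv (toK0 R))) (m + 1) x, by
        rw [hmap_apply, hmap_apply, Abelian.Ext.comp_assoc_of_second_deg_zero, Abelian.Ext.mk₀_comp_mk₀,
          ← Functor.map_comp, IsIso.inv_hom_id, CategoryTheory.Functor.map_id, Abelian.Ext.comp_mk₀_id]⟩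
  | j + 1 => fun n i m => by
    haveI : Subsingleton (HU (inter D.U i) ((zSeq R j).map
        (SheafOfModules.toSheaf (ModSite.ringSh (𝔛.Osh h)))).X₂ (m + 1)) :=
      acyclic_inj (R.cocomplex.X j) D.U n i m
    haveI : Subsingleton (HU (inter D.U i) ((zSeq R j).map
        (SheafOfModules.toSheaf (ModSite.ringSh (𝔛.Osh h)))).X₁ (m + 1 + 1)) := acyclic_Kz j n i (m + 1)
    exact subsingleton_quot (toSheaf_SE (zSeq_shortExact R j)) (inter D.U i) (m + 1)

include hM in
lemma surjSeq_zSeq (j : ℕ) : SurjSeq D (zSeq R j) :=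
  surjSeq_of_acyclic D (zSeq_shortExact R j) (acyclic_Kz D R hM j)

/-- Iterated connecting maps. -/
def shift : ∀ (q i m : ℕ), i + q = m → (HW D i (Kz R q) →ₗ[A] HW D m (Kz R 0))
  | 0, _, _, e => by subst e; exact LinearMap.id
  | q + 1, i, m, e => (shift q (i + 1) m (by omega)).comp (δW D (surjSeq_zSeq D R hM q) i)

lemma shift_surjective : ∀ (q i m : ℕ) (e : i + q = m), Function.Surjective (shift D R hM q i m e)
  | 0, i, _, e => by subst e; exact Function.surjective_id
  | q + 1, i, m, e => by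
    haveI : Injective (zSeq R q).X₂ := inferInstanceAs (Injective (R.cocomplex.X q))
    exact (shift_surjective q (i + 1) m (by omega)).comp
      (δW_surjective D (surjSeq_zSeq D R hM q) i (subsingleton_HW_inj D i (zSeq R q).X₂))

lemma shift_injective : ∀ (q i m : ℕ) (e : i + 1 + q = m), Function.Injective (shift D R hM q (i + 1) m e)
  | 0, i, _, e => by subst e; exact Function.injective_id
  | q + 1, i, m, e => by
    refine (shift_injective q (i + 1) m (by omega)).comp ((injective_iff_map_eq_zero _).2 fun x hx => ?_)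
    obtain ⟨y, rfl⟩ := δW_eq_zero D (surjSeq_zSeq D R hM q) (i + 1) x hx
    haveI : Injective (zSeq R q).X₂ := inferInstanceAs (Injective (R.cocomplex.X q))
    haveI := subsingleton_HW_inj D i (zSeq R q).X₂
    rw [Subsingleton.elim y 0, map_zero]

lemma shift_natural {M' : FSch.ModF 𝔛 h} {R' : InjectiveResolution M'} (hM' : Acyclic D.U (TS M'))
    (φ : R.cocomplex ⟶ R'.cocomplex) : ∀ (q i m : ℕ) (e : i + q = m) (x : HW D i (Kz R q)),
      shift D R' hM' q i m e (HWmap D i (zmap φ q) x) = HWmap D m (zmap φ 0) (shift D R hM q i m e x) := by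
  intro q
  induction q with
  | zero => intro i m e x; subst e; rfl
  | succ q ih =>
    intro i m e x
    have h1 := δW_natural D (surjSeq_zSeq D R hM q) (surjSeq_zSeq D R' hM' q) (zSeqMap φ q) i x
    refine Eq.trans ?_ (ih (i + 1) m (by omega) (δW D (surjSeq_zSeq D R hM q) i x))
    exact congrArg (shift D R' hM' q (i + 1) m (by omega)) h1

/-- Cocycle sections give classes. -/
def θ (q : ℕ) : SecW D (Kz R q) →ₗ[A] HW D q M :=
  (HWmap D q (inv (toK0 R))).comp ((shift D R hM q 0 q (Nat.zero_add q)).comp (sH0 D (Kz R q)))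

lemma HWmap_inv_bijective (q : ℕ) : Function.Bijective (HWmap D q (inv (toK0 R))) := by
  refine Function.bijective_iff_has_inverse.2 ⟨HWmap D q (toK0 R), fun x => ?_, fun x => ?_⟩
  · rw [← HWmap_comp, IsIso.inv_hom_id]
    obtain ⟨z, rfl⟩ := cW_surjective D x
    rfl
  · rw [← HWmap_comp, IsIso.hom_inv_id]
    obtain ⟨z, rfl⟩ := cW_surjective D x
    rfl

variable (hcov : D.W ≤ iSup D.U)

include hcov

lemma θ_surjective (q : ℕ) : Function.Surjective (θ D R hM q) :=
  (HWmap_inv_bijective D R q).2.comp ((shift_surjective D R hM q 0 q _).comp (sH0_bijective D hcov _).2)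

lemma θ_zero_injective : Function.Injective (θ D R hM 0) :=
  (HWmap_inv_bijective D R 0).1.comp (sH0_bijective D hcov _).1

lemma θ_succ_eq_zero (q : ℕ) (x : SecW D (Kz R (q + 1))) (hx : θ D R hM (q + 1) x = 0) :
    ∃ y, SWmap D (zq R q) y = x := by
  have h1 : shift D R hM q 1 (q + 1) (by omega) (δW D (surjSeq_zSeq D R hM q) 0 (sH0 D (Kz R (q + 1)) x)) = 0 :=
    (HWmap_inv_bijective D R (q + 1)).1 (hx.trans (map_zero _).symm)
  obtain ⟨y, hy⟩ := δW_eq_zero D (surjSeq_zSeq D R hM q) 0 _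
    (shift_injective D R hM q 0 (q + 1) (by omega) (h1.trans (map_zero _).symm))
  obtain ⟨t, rfl⟩ := (sH0_bijective D hcov (R.cocomplex.X q)).2 y
  refine ⟨t, (sH0_bijective D hcov (Kz R (q + 1))).1 ?_⟩
  rw [← sH0_natural D (zq R q) t]
  exact hy

omit hcov in
lemma θ_zq (q : ℕ) (y : SecW D (R.cocomplex.X q)) : θ D R hM (q + 1) (SWmap D (zq R q) y) = 0 := by
  have h1 : δW D (surjSeq_zSeq D R hM q) 0 (sH0 D (Kz R (q + 1)) (SWmap D (zq R q) y)) = 0 := by
    rw [← sH0_natural D (zq R q) y]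
    exact δW_HWmap D (surjSeq_zSeq D R hM q) 0 _
  show HWmap D (q + 1) (inv (toK0 R)) (shift D R hM q (0 + 1) (q + 1) _
    (δW D (surjSeq_zSeq D R hM q) 0 (sH0 D (Kz R (q + 1)) (SWmap D (zq R q) y)))) = 0
  rw [h1, map_zero, map_zero]

omit hcov in
lemma θ_natural {M' : FSch.ModF 𝔛 h} {R' : InjectiveResolution M'} (hM' : Acyclic D.U (TS M'))
    (φ : R.cocomplex ⟶ R'.cocomplex) {g : M ⟶ M'} (hg : R.ι.f 0 ≫ φ.f 0 = g ≫ R'.ι.f 0) (q : ℕ)
    (x : SecW D (Kz R q)) : θ D R' hM' q (SWmap D (zmap φ q) x) = HWmap D q g (θ D R hM q x) := by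
  have h1 := congrArg (shift D R' hM' q 0 q (Nat.zero_add q)) (sH0_natural D (zmap φ q) x).symm
  have h2 := shift_natural D R hM hM' φ q 0 q (Nat.zero_add q) (sH0 D (Kz R q) x)
  have h3 : zmap φ 0 ≫ inv (toK0 R') = inv (toK0 R) ≫ g := by
    rw [IsIso.comp_inv_eq, Category.assoc, ← toK0_zmap φ hg, IsIso.inv_hom_id_assoc]
  refine (congrArg (HWmap D q (inv (toK0 R'))) (h1.trans h2)).trans ?_
  refine (HWmap_comp D q (zmap φ 0) (inv (toK0 R')) _).symm.trans ?_
  rw [h3]
  exact HWmap_comp D q (inv (toK0 R)) g _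

end Sections

end Groth.Agent.FRel
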