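import Groth.Agent.FRelLib.Levels
import Groth.Agent.FProperLib.Closure

/-!
# Sections of higher direct images of a coherent module over affine opens of the base
-/

set_option autoImplicit false
set_option linter.style.haveILetI false
set_option linter.unusedSectionVars false
set_option backward.isDefEq.respectTransparency false
set_option backward.isDefEq.respectTransparency.types false
set_option maxHeartbeats 1000000

universe u

open CategoryTheory CategoryTheory.Limits AlgebraicGeometry TopologicalSpace Opposite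
open Groth.Agent.CohBase

noncomputable section

namespace Groth.Agent.FRel

open Groth.Agent.FCompl Groth.Agent.FProper

variable {𝔛 𝔜 : FSch.Sys.{u}} {h : 𝔛.IsFormal} {h' : 𝔜.IsFormal} [HasInjectiveResolutions (FSch.ModF 𝔛 h)]
  (f : 𝔛 ⟶ 𝔜) (hf : FSch.IsProperHom f) (hL : 𝔛.IsLocNoethFormal) (hL' : 𝔜.IsLocNoethFormal)
  {𝔉 : FSch.ModF 𝔛 h} (h𝔉 : FSch.IsCohF 𝔛 h 𝔉) (q : ℕ)

variable (h') in
/-- A map of modules on sections of higher direct images. -/
abbrev gmap {M N : FSch.ModF 𝔛 h} (g : M ⟶ N) (V : (𝔜.X 0).Opens)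
    (x : ((FSch.RpushF f h h' q).obj M).val.obj (op V)) : ((FSch.RpushF f h h' q).obj N).val.obj (op V) :=
  (((FSch.RpushF f h h' q).map g).val.app (op V)).hom x

lemma gmap_gmap {M N P : FSch.ModF 𝔛 h} (g : M ⟶ N) (g' : N ⟶ P) (V : (𝔜.X 0).Opens)
    (x : ((FSch.RpushF f h h' q).obj M).val.obj (op V)) :
    gmap h' f q g' V (gmap h' f q g V x) = gmap h' f q (g ≫ g') V x := by
  unfold gmap
  rw [Functor.map_comp]
  rfl

lemma gmap_mres {M N : FSch.ModF 𝔛 h} (g : M ⟶ N) {V V' : (𝔜.X 0).Opens} (hV : V' ≤ V)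
    (x : ((FSch.RpushF f h h' q).obj M).val.obj (op V)) :
    gmap h' f q g V' (FPLocal.mres _ (homOfLE hV).op x) = FPLocal.mres _ (homOfLE hV).op (gmap h' f q g V x) :=
  FPLocal.app_mres ((FSch.RpushF f h h' q).map g) (homOfLE hV) x

variable {V : (𝔜.X 0).Opens} (hV : IsAffineOpen V)

include hL hL' hf h𝔉 hV in
/-- The levels are computed by Čech classes. -/
lemma η_lvl_bijective {ι : Type u} (U : ι → (𝔛.X 0).Opens) (hle : ∀ i, U i ≤ preV f V)
    (hcov : preV f V ≤ iSup U) (haff : ∀ (m : ℕ) (i : Fin (m + 1) → ι), IsAffineOpen (inter U i)) (k : ℕ) :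
    Function.Bijective (η (h' := h') f V U hle hcov q (lvl 𝔉 k) (acyclic_coh U hL (coh_lvl hL h𝔉 k) haff)) :=
  η_bijective f V U hle hcov q _ fun r => AcV_of_coh V hL' (coh_rpush_lvl hL hL' f hf h𝔉 r k) hV

include hL hL' hf h𝔉 in
/-- A section killed on all levels vanishes. -/
theorem eq_zero_of_lvl {W : (𝔜.X 0).Opens} (s : ((FSch.RpushF f h h' q).obj 𝔉).val.obj (op W))
    (hs : ∀ k, gmap h' f q (prj 𝔉 k) W s = 0) : s = 0 := by
  choose V hVW hV hyV s' hs' using fun y : W => exists_ρ_local (h' := h') f (injectiveResolution 𝔉) q s y.2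
  refine TopCat.Sheaf.eq_of_locally_eq' (((SheafOfModules.toSheaf (ModSite.ringSh (𝔜.Osh h'))).obj
    ((FSch.RpushF f h h' q).obj 𝔉) : TopCat.Sheaf AddCommGrpCat.{u} (𝔜.X 0).carrier)) V W (fun y => homOfLE (hVW y))
    (fun y hy => Opens.mem_iSup.2 ⟨⟨y, hy⟩, hyV ⟨y, hy⟩⟩) s 0 fun y => ?_
  refine Eq.trans ?_ (map_zero _).symm
  obtain ⟨ι, _, U, hle, hcov, haff, hD⟩ := exists_deep h h' f hL hf (hV y) hL' h𝔉
  have h0 : Acyclic U (TS 𝔉) := acyclic_coh U hL h𝔉 haff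
  let x := θ (cvV h h' f (V y) U hle) (injectiveResolution 𝔉) h0 q (s' y)
  have hx : η f (V y) U hle hcov q 𝔉 h0 x =
      FPLocal.mres ((FSch.RpushF f h h' q).obj 𝔉) (homOfLE (hVW y)).op s :=
    (ηR_θ f (V y) U hle (injectiveResolution 𝔉) h0 hcov q (s' y)).trans (hs' y)
  refine hx.symm.trans ?_
  rw [eq_zero_of_levelsW (cvV h h' f (V y) U hle) hL h𝔉 haff q hD x fun k =>
    (η_lvl_bijective (h' := h') f hf hL hL' h𝔉 q (hV y) U hle hcov haff k).1 ?_]
  · exact map_zero _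
  · rw [η_natural f (V y) U hle hcov q h0 _ (prj 𝔉 k) x, hx, map_zero]
    exact (gmap_mres f q (prj 𝔉 k) (hVW y) s).trans (by rw [hs k, map_zero])

include hL hL' hf h𝔉 hV in
/-- Compatible sections of the levels come from a section. -/
theorem exists_of_lvl (y : ∀ k, ((FSch.RpushF f h h' q).obj (lvl 𝔉 k)).val.obj (op V))
    (hy : ∀ k, gmap h' f q (ltr 𝔉 k) V (y (k + 1)) = y k) :
    ∃ s : ((FSch.RpushF f h h' q).obj 𝔉).val.obj (op V), ∀ k, gmap h' f q (prj 𝔉 k) V s = y k := by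
  obtain ⟨ι, _, U, hle, hcov, haff, hD⟩ := exists_deep h h' f hL hf hV hL' h𝔉
  have h0 : Acyclic U (TS 𝔉) := acyclic_coh U hL h𝔉 haff
  have hb := η_lvl_bijective (h' := h') f hf hL hL' h𝔉 q hV U hle hcov haff
  choose c hc using fun k => (hb k).2 (y k)
  obtain ⟨x, hx⟩ := exists_lift_HW (cvV h h' f V U hle) hL h𝔉 haff q c fun k => (hb k).1 (by
    rw [η_natural f V U hle hcov q (acyclic_coh U hL (coh_lvl hL h𝔉 (k + 1)) haff) (acyclic_coh U hL (coh_lvl hL h𝔉 k) haff) (ltr 𝔉 k), hc, hc]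
    exact hy k)
  refine ⟨η f V U hle hcov q 𝔉 h0 x, fun k => ?_⟩
  rw [← hc k, ← hx k]
  exact (η_natural f V U hle hcov q h0 _ (prj 𝔉 k) x).symm

include hL hL' hf h𝔉 hV in
/-- The comparison map is bijective for coherent modules. -/
theorem η_coh_bijective {ι : Type u} (U : ι → (𝔛.X 0).Opens) (hle : ∀ i, U i ≤ preV f V)
    (hcov : preV f V ≤ iSup U) (haff : ∀ (m : ℕ) (i : Fin (m + 1) → ι), IsAffineOpen (inter U i))
    (hD : ∀ r, Deep (cvV h h' f V U hle) 𝔉 (II 𝔜 h' V) r) :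
    Function.Bijective (η (h' := h') f V U hle hcov q 𝔉 (acyclic_coh U hL h𝔉 haff)) := by
  have h0 : Acyclic U (TS 𝔉) := acyclic_coh U hL h𝔉 haff
  have hb := η_lvl_bijective (h' := h') f hf hL hL' h𝔉 q hV U hle hcov haff
  refine ⟨(injective_iff_map_eq_zero _).2 fun x hx => ?_, fun s => ?_⟩
  · refine eq_zero_of_levelsW (cvV h h' f V U hle) hL h𝔉 haff q hD x fun k => (hb k).1 ?_
    rw [η_natural f V U hle hcov q h0 _ (prj 𝔉 k) x, hx, map_zero, map_zero]
  · choose c hc using fun k => (hb k).2 (gmap h' f q (prj 𝔉 k) V s)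
    obtain ⟨x, hx⟩ := exists_lift_HW (cvV h h' f V U hle) hL h𝔉 haff q c fun k => (hb k).1 (by
      rw [η_natural f V U hle hcov q (acyclic_coh U hL (coh_lvl hL h𝔉 (k + 1)) haff) (acyclic_coh U hL (coh_lvl hL h𝔉 k) haff) (ltr 𝔉 k), hc, hc]
      exact (gmap_gmap f q (prj 𝔉 (k + 1)) (ltr 𝔉 k) V s).trans (congrArg (fun g => gmap h' f q g V s) (prj_ltr 𝔉 k)))
    refine ⟨x, sub_eq_zero.1 (eq_zero_of_lvl f hf hL hL' h𝔉 q _ fun k => ?_)⟩
    have e := η_natural (h' := h') f V U hle hcov q h0 (acyclic_coh U hL (coh_lvl hL h𝔉 k) haff) (prj 𝔉 k) x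
    rw [hx, hc] at e
    show (((FSch.RpushF f h h' q).map (prj 𝔉 k)).val.app (op V)).hom (_ - s) = 0
    rw [map_sub, sub_eq_zero]
    exact e.symm

include hL hL' hf h𝔉 hV in
/-- Sections of a level reaching far down come from sections of the module. -/
theorem exists_section_eq : ∃ c, ∀ m k, m + c ≤ k → ∀ (t : lvl 𝔉 k ⟶ lvl 𝔉 m), prj 𝔉 k ≫ t = prj 𝔉 m →
    ∀ y : ((FSch.RpushF f h h' q).obj (lvl 𝔉 k)).val.obj (op V),
      ∃ s, gmap h' f q t V y = gmap h' f q (prj 𝔉 m) V s := by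
  obtain ⟨ι, _, U, hle, hcov, haff, hD⟩ := exists_deep h h' f hL hf hV hL' h𝔉
  have h0 : Acyclic U (TS 𝔉) := acyclic_coh U hL h𝔉 haff
  have hb := η_lvl_bijective (h' := h') f hf hL hL' h𝔉 q hV U hle hcov haff
  obtain ⟨c, hc⟩ := exists_class_eqW (cvV h h' f V U hle) hL h𝔉 haff q (hD q)
  refine ⟨c, fun m k hmk t ht y => ?_⟩
  obtain ⟨w, rfl⟩ := (hb k).2 y
  obtain ⟨x, hx⟩ := hc m k hmk t ht w
  refine ⟨η f V U hle hcov q 𝔉 h0 x, ?_⟩
  have e1 := η_natural (h' := h') f V U hle hcov q (acyclic_coh U hL (coh_lvl hL h𝔉 k) haff)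
    (acyclic_coh U hL (coh_lvl hL h𝔉 m) haff) t w
  rw [hx] at e1
  exact e1.symm.trans (η_natural (h' := h') f V U hle hcov q h0 _ (prj 𝔉 m) x)

include hL hL' hf h𝔉 hV in
/-- Sections over an affine open form a finite module, separated by the levels. -/
theorem finite_sections : Module.Finite (OR 𝔜 h' V) (((FSch.RpushF f h h' q).obj 𝔉).val.obj (op V)) ∧
    ∀ e, ∃ m, ∀ s, gmap h' f q (prj 𝔉 m) V s = 0 →
      s ∈ II 𝔜 h' V ^ e • (⊤ : Submodule (OR 𝔜 h' V) (((FSch.RpushF f h h' q).obj 𝔉).val.obj (op V))) := by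
  haveI := FCompl.noetherian (h := h') hL' hV
  haveI := FCompl.complete (h := h') hL' hV
  obtain ⟨ι, _, U, hle, hcov, haff, hD⟩ := exists_deep h h' f hL hf hV hL' h𝔉
  have h0 : Acyclic U (TS 𝔉) := acyclic_coh U hL h𝔉 haff
  have hb := η_lvl_bijective (h' := h') f hf hL hL' h𝔉 q hV U hle hcov haff
  have hlvl : ∀ k, Module.Finite (OR 𝔜 h' V) (HW (cvV h h' f V U hle) q (lvl 𝔉 k)) := fun k => by
    haveI : Module.Finite (OR 𝔜 h' V) (((FSch.RpushF f h h' q).obj (lvl 𝔉 k)).val.obj (op V)) :=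
      finite_ΓF hL' hV (coh_rpush_lvl hL hL' f hf h𝔉 q k)
    exact Module.Finite.equiv (LinearEquiv.ofBijective _ (hb k)).symm
  obtain ⟨hfin, hsep⟩ := finite_HW (cvV h h' f V U hle) hL h𝔉 haff q hD hlvl
  let E := LinearEquiv.ofBijective _ (η_coh_bijective (h' := h') f hf hL hL' h𝔉 q hV U hle hcov haff hD)
  haveI := hfin
  refine ⟨Module.Finite.equiv E, fun e => ?_⟩
  obtain ⟨m, hm⟩ := hsep e
  refine ⟨m, fun s hs => ?_⟩
  have h1 : E.symm s ∈ LinearMap.ker (HWmap (cvV h h' f V U hle) q (prj 𝔉 m)) := by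
    refine LinearMap.mem_ker.2 ((hb m).1 ?_)
    refine (η_natural (h' := h') f V U hle hcov q h0 _ (prj 𝔉 m) (E.symm s)).trans ?_
    rw [map_zero]
    exact (congrArg (gmap h' f q (prj 𝔉 m) V) (E.apply_symm_apply s)).trans hs
  have h2 := Submodule.mem_map_of_mem (f := E.toLinearMap) (hm h1)
  rw [Submodule.map_smul'', Submodule.map_top, LinearEquiv.range] at h2
  exact (E.apply_symm_apply s) ▸ h2

end Groth.Agent.FRel
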