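import Groth.Agent.FRelLib.Transfer
import Groth.Agent.FRelLib.Eta
import Groth.Agent.AdicLemmas.Basic
import Groth.Agent.FComplLib.RpushLevel

/-!
# Čech cohomology over an affine open of the base and that of the levels
-/

set_option autoImplicit false
set_option linter.style.haveILetI false
set_option linter.unusedSectionVars false
set_option backward.isDefEq.respectTransparency false
set_option backward.isDefEq.respectTransparency.types false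
set_option maxHeartbeats 1000000

universe u

open CategoryTheory CategoryTheory.Limits AlgebraicGeometry TopologicalSpace Opposite
open Groth.Agent.CohBase

noncomputable section

namespace Groth.Agent.FRel

open Groth.Agent.FCompl Groth.Agent.FProper

section Rpush

variable {𝔛 𝔜 : FSch.Sys.{u}} {h : 𝔛.IsFormal} {h' : 𝔜.IsFormal}

/-- Higher direct images of the levels of a coherent module are coherent. -/
theorem coh_rpush_lvl (hL : 𝔛.IsLocNoethFormal) (hL' : 𝔜.IsLocNoethFormal)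
    [HasInjectiveResolutions (FSch.ModF 𝔛 h)] (f : 𝔛 ⟶ 𝔜) (hf : FSch.IsProperHom f)
    {𝔉 : FSch.ModF 𝔛 h} (h𝔉 : FSch.IsCohF 𝔛 h 𝔉) (p n : ℕ) :
    FSch.IsCohF 𝔜 h' ((FSch.RpushF f h h' p).obj (lvl 𝔉 n)) := by
  haveI := hf.2
  haveI := hL'.2.2 n
  haveI := isProper_level f hL hL' n
  haveI : HasInjectiveResolutions (𝔛.X n).Modules := inferInstance
  obtain ⟨g1, g2⟩ := sysOf_isCoh 𝔉 h𝔉 n
  let G := (FSch.levelMor 𝔛 h n).pull.obj 𝔉
  haveI : Coh.IsQCoh G := g1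
  have hG : Coh.IsCoh G := ⟨g1, g2⟩
  obtain ⟨h1, h2⟩ := RpushLib.isCoh_rpush ((f : FSch.Hom 𝔛 𝔜).app n) hG p
  have H := isCohF_levelPush (h := h') hL' n ((Coh.Rpush ((f : FSch.Hom 𝔛 𝔜).app n) p).obj G)
  exact (SheafOfModules.isFinitePresentation (ModSite.ringSh (𝔜.Osh h'))).prop_of_iso
    ((rpushLevelIso (h := h) (h' := h') n f p).app G).symm H

end Rpush

section Cochains

variable {A : Type u} [CommRing A] {𝔛 : FSch.Sys.{u}} {h : 𝔛.IsFormal} (D : Cv A h)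
  (hL : 𝔛.IsLocNoethFormal) {𝔉 : FSch.ModF 𝔛 h} (h𝔉 : FSch.IsCohF 𝔛 h 𝔉)
  (haff : ∀ (m : ℕ) (i : Fin (m + 1) → D.ι), IsAffineOpen (inter D.U i))

lemma CWmap_prj_eq_zero {q k : ℕ} {z : CW D q 𝔉} :
    CWmap D q (prj 𝔉 k) z = 0 ↔ z ∈ CFW D 𝔉 q (k + 1) := Iff.rfl

lemma CFW_zero (q : ℕ) (z : CW D q 𝔉) : z ∈ CFW D 𝔉 q 0 := (mem_CFW D).2 fun _ => rfl

lemma CFW_anti (q : ℕ) : Antitone (CFW D 𝔉 q) := fun _ _ hjk _ hz =>
  (mem_CFW D).2 fun i => prj'_eq_zero_of_le hjk ((mem_CFW D).1 hz i)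

lemma dW_mem_CFW (q k : ℕ) {z : CW D q 𝔉} (hz : z ∈ CFW D 𝔉 q k) : dW D q 𝔉 z ∈ CFW D 𝔉 (q + 1) k := by
  show CWmap D (q + 1) (prj' 𝔉 k) _ = 0
  rw [← dW_CWmap, show CWmap D q (prj' 𝔉 k) z = 0 from hz, map_zero]

include hL h𝔉 haff in
lemma exists_prjW_eq (q k : ℕ) (w : CW D q (lvl 𝔉 k)) : ∃ z, CWmap D q (prj 𝔉 k) z = w := by
  choose y hy using fun i => FProper.prj_surjective hL h𝔉 (haff q i) k (cpW D w i)
  exact ⟨mkW D y, cpW_ext D hy⟩

include hL h𝔉 in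
lemma CFW_sum (q : ℕ) (b : ℕ → CW D q 𝔉) (hb : ∀ n, b n ∈ CFW D 𝔉 q n) :
    ∃ s, ∀ n, s - ∑ l ∈ Finset.range n, b l ∈ CFW D 𝔉 q n := by
  choose s hs using fun i => exists_of_compatible hL h𝔉 (V := inter D.U i) (fun n => cpW D (b n) i)
    fun n => (mem_CFW D).1 (hb n) i
  refine ⟨mkW D s, fun n => (mem_CFW D).2 fun i => ?_⟩
  rw [cpW_sub, cpW_sum, cpW_mkW]
  exact hs i n

include hL h𝔉 in
lemma CFW_sep (q : ℕ) (z : CW D q 𝔉) (hz : ∀ k, z ∈ CFW D 𝔉 q k) : z = 0 :=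
  cpW_ext D fun i => eq_zero_of_prj hL h𝔉 fun k => (mem_CFW D).1 (hz k) i

/-- A cocycle. -/
def zkW {q : ℕ} {M : FSch.ModF 𝔛 h} (z : CW D q M) (hz : dW D q M z = 0) : ↥(LinearMap.ker (dW D q M)) := ⟨z, hz⟩

include hL h𝔉 haff in
lemma exists_bd_lift (q k : ℕ) {w : CW D q (lvl 𝔉 k)} (hw : w ∈ bdW D q (lvl 𝔉 k)) :
    ∃ δ, δ ∈ bdW D q 𝔉 ∧ CWmap D q (prj 𝔉 k) δ = w := by
  cases q with
  | zero => exact ⟨0, zero_mem _, (map_zero _).trans ((Submodule.mem_bot A).1 hw).symm⟩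
  | succ r =>
    obtain ⟨b, rfl⟩ := hw
    obtain ⟨b', rfl⟩ := exists_prjW_eq D hL h𝔉 haff r k b
    exact ⟨dW D r 𝔉 b', ⟨b', rfl⟩, (dW_CWmap D r (prj 𝔉 k) b').symm⟩

include hL h𝔉 haff in
/-- Compatible classes on the levels come from a class. -/
theorem exists_lift_HW (q : ℕ) (y : ∀ k, HW D q (lvl 𝔉 k))
    (hy : ∀ k, HWmap D q (ltr 𝔉 k) (y (k + 1)) = y k) :
    ∃ x : HW D q 𝔉, ∀ k, HWmap D q (prj 𝔉 k) x = y k := by
  classical
  have htr : ∀ k (z : CW D q 𝔉), CWmap D q (ltr 𝔉 k) (CWmap D q (prj 𝔉 (k + 1)) z) =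
      CWmap D q (prj 𝔉 k) z := fun k z => by
    refine (CWmap_comp D q (prj 𝔉 (k + 1)) (ltr 𝔉 k) z).symm.trans ?_
    exact congrArg (fun g => CWmap D q g z) (prj_ltr 𝔉 k)
  let Good : ∀ k : ℕ, CW D q 𝔉 → Prop := fun k z =>
    ∃ hz : dW D q (lvl 𝔉 k) (CWmap D q (prj 𝔉 k) z) = 0, cW D (zkW D _ hz) = y k
  have first : ∃ z, Good 0 z := by
    obtain ⟨w, hw⟩ := cW_surjective D (y 0)
    obtain ⟨z, hz⟩ := exists_prjW_eq D hL h𝔉 haff q 0 w.1
    exact ⟨z, by rw [hz]; exact w.2, (congrArg (cW D) (Subtype.ext hz)).trans hw⟩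
  have step : ∀ k z, Good k z → ∃ z', Good (k + 1) z' ∧ z' - z ∈ CFW D 𝔉 q (k + 1) := by
    rintro k z ⟨hz, hzy⟩
    obtain ⟨w, hw⟩ := cW_surjective D (y (k + 1))
    obtain ⟨z₁, hz₁⟩ := exists_prjW_eq D hL h𝔉 haff q (k + 1) w.1
    have hwk : CWmap D q (ltr 𝔉 k) w.1 = CWmap D q (prj 𝔉 k) z₁ := by rw [← hz₁, htr]
    have hyk : cW D (ZWmap D q (ltr 𝔉 k) w) = y k := by rw [← hy k, ← hw, HWmap_cW]
    obtain ⟨δ, hδb, hδ⟩ := exists_bd_lift D hL h𝔉 haff q k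
      ((cW_eq_zero D (ZWmap D q (ltr 𝔉 k) w - zkW D _ hz)).1 (by rw [map_sub, hyk, hzy, sub_self]))
    have hδ' : CWmap D q (prj 𝔉 k) δ = CWmap D q (prj 𝔉 k) z₁ - CWmap D q (prj 𝔉 k) z := by
      rw [hδ]
      show CWmap D q (ltr 𝔉 k) w.1 - CWmap D q (prj 𝔉 k) z = _
      rw [hwk]
    let δ' : ↥(LinearMap.ker (dW D q (lvl 𝔉 (k + 1)))) :=
      zkW D (CWmap D q (prj 𝔉 (k + 1)) δ) (by rw [dW_CWmap, dW_bdW D q hδb, map_zero])
    have hval : CWmap D q (prj 𝔉 (k + 1)) (z₁ - δ) = (w - δ').1 :=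
      (map_sub (CWmap D q (prj 𝔉 (k + 1))) _ _).trans (congrArg (· - _) hz₁)
    refine ⟨z₁ - δ, ⟨by rw [hval]; exact (w - δ').2, ?_⟩, ?_⟩
    · refine (congrArg (cW D) (Subtype.ext hval)).trans ?_
      rw [map_sub, hw, (cW_eq_zero D δ').2 (bdW_map D q _ hδb), sub_zero]
    · rw [← CWmap_prj_eq_zero, map_sub, map_sub, hδ']
      abel
  obtain ⟨z₀, hz₀⟩ := first
  choose g hg hg' using step
  let Z : ∀ k, { z // Good k z } := fun k =>
    Nat.rec (motive := fun k => { z // Good k z }) ⟨z₀, hz₀⟩ (fun k z => ⟨g k z.1 z.2, hg k z.1 z.2⟩) k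
  let b : ℕ → CW D q 𝔉 := fun n => Nat.casesOn n (Z 0).1 fun l => (Z (l + 1)).1 - (Z l).1
  have hb : ∀ n, b n ∈ CFW D 𝔉 q n
    | 0 => CFW_zero D q _
    | l + 1 => hg' l (Z l).1 (Z l).2
  have hbs : ∀ n, ∑ l ∈ Finset.range (n + 1), b l = (Z n).1 := by
    intro n
    induction n with
    | zero => rw [Finset.sum_range_one]; rfl
    | succ n ih =>
      rw [Finset.sum_range_succ, ih]
      exact add_sub_cancel _ _
  obtain ⟨s, hs⟩ := CFW_sum D hL h𝔉 q b hb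
  have hsk : ∀ k, CWmap D q (prj 𝔉 k) s = CWmap D q (prj 𝔉 k) (Z k).1 := fun k => by
    have e := hs (k + 1)
    rw [hbs, ← CWmap_prj_eq_zero, map_sub] at e
    exact sub_eq_zero.1 e
  have hds : dW D q 𝔉 s = 0 := CFW_sep D hL h𝔉 (q + 1) _ fun k => by
    cases k with
    | zero => exact CFW_zero D _ _
    | succ k =>
      rw [← CWmap_prj_eq_zero, ← dW_CWmap, hsk]
      exact (Z k).2.1
  refine ⟨cW D (zkW D s hds), fun k => ?_⟩
  obtain ⟨hz, hzy⟩ := (Z k).2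
  rw [HWmap_cW, show ZWmap D q (prj 𝔉 k) (zkW D s hds) = zkW D _ hz from Subtype.ext (hsk k)]
  exact hzy

variable (𝔉) in
/-- Classes in a step of the filtration. -/
def FH (q k : ℕ) : Submodule A (HW D q 𝔉) :=
  ((CFW D 𝔉 q k).comap (LinearMap.ker (dW D q 𝔉)).subtype).map (cW D)

include hL h𝔉 haff in
lemma mem_FH_iff (q k : ℕ) (x : HW D q 𝔉) : x ∈ FH D 𝔉 q (k + 1) ↔ HWmap D q (prj 𝔉 k) x = 0 := by
  constructor
  · rintro ⟨z, hz, rfl⟩
    rw [HWmap_cW, show ZWmap D q (prj 𝔉 k) z = 0 from Subtype.ext ((CWmap_prj_eq_zero D).2 hz), map_zero]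
  · intro hx
    obtain ⟨z, rfl⟩ := cW_surjective D x
    rw [HWmap_cW, cW_eq_zero] at hx
    obtain ⟨δ, hδb, hδ⟩ := exists_bd_lift D hL h𝔉 haff q k hx
    have hmem : z.1 - δ ∈ CFW D 𝔉 q (k + 1) := by
      rw [← CWmap_prj_eq_zero, map_sub, hδ, ZWmap_val]
      exact sub_self _
    refine Submodule.mem_map.2 ⟨z - zkW D δ (dW_bdW D q hδb), hmem, ?_⟩
    exact (map_sub (cW D) _ _).trans ((congrArg (cW D z - ·) ((cW_eq_zero D (zkW D δ _)).2 hδb)).trans (sub_zero _))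

variable {J : Ideal A}

lemma smul_mem_FH (q : ℕ) (hD : Deep D 𝔉 J q) (k : ℕ) :
    J • FH D 𝔉 q k ≤ FH D 𝔉 q (k + 1) := by
  refine Submodule.smul_le.2 fun a ha x hx => ?_
  obtain ⟨z, hz, rfl⟩ := hx
  exact ⟨a • z, hD.smul_mem k a ha z.1 hz, map_smul _ _ _⟩

lemma pow_smul_FH_le (q : ℕ) (hD : Deep D 𝔉 J q) (k : ℕ) :
    ∀ n, J ^ n • FH D 𝔉 q k ≤ FH D 𝔉 q (k + n)
  | 0 => by rw [pow_zero, Ideal.one_eq_top, Submodule.top_smul]; exact le_rfl
  | n + 1 => by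
    rw [pow_succ', Submodule.mul_smul]
    exact (Submodule.smul_mono le_rfl (pow_smul_FH_le q hD k n)).trans (smul_mem_FH D q hD (k + n))

lemma exists_FH_le (q : ℕ) (hD : Deep D 𝔉 J q) :
    ∃ N, ∀ n, FH D 𝔉 q (N + n) ≤ J ^ n • FH D 𝔉 q N := by
  obtain ⟨N, hN⟩ := hD.good
  refine ⟨N, fun n => ?_⟩
  induction n with
  | zero => rw [pow_zero, Ideal.one_eq_top, Submodule.top_smul]; exact le_rfl
  | succ n ih =>
    refine le_trans ?_ ((Submodule.smul_mono (le_refl J) ih).trans_eq (by rw [pow_succ', Submodule.mul_smul]))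
    rintro x ⟨z, hz, rfl⟩
    obtain ⟨s, a, w, ha, hw, hb⟩ := hN (N + n) (Nat.le_add_right N n) z.1 hz z.2
    have e : cW D z = ∑ j, a j • cW D (zkW D (w j) (hw j).2) := by
      rw [← sub_eq_zero, Finset.sum_congr rfl (fun j _ => (map_smul (cW D) (a j) (zkW D (w j) (hw j).2)).symm),
        ← map_sum, ← map_sub, cW_eq_zero]
      rw [Submodule.coe_sub, Submodule.coe_sum]
      exact hb
    rw [e]
    exact sum_mem fun j _ => Submodule.smul_mem_smul (ha j) ⟨_, (hw j).1, rfl⟩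

include hL h𝔉 haff in
/-- A class killed on all levels vanishes. -/
theorem eq_zero_of_levelsW (q : ℕ) (hD : ∀ r, Deep D 𝔉 J r) (x : HW D q 𝔉)
    (hx : ∀ k, HWmap D q (prj 𝔉 k) x = 0) : x = 0 := by
  obtain ⟨z, rfl⟩ := cW_surjective D x
  have hz : ∀ k, CWmap D q (prj 𝔉 k) z.1 ∈ bdW D q (lvl 𝔉 k) := fun k =>
    (cW_eq_zero D (ZWmap D q (prj 𝔉 k) z)).1 ((HWmap_cW D q (prj 𝔉 k) z).symm.trans (hx k))
  refine (cW_eq_zero D z).2 ?_
  cases q with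
  | zero =>
    refine (Submodule.mem_bot _).2 (CFW_sep D hL h𝔉 0 _ fun k => ?_)
    cases k with
    | zero => exact CFW_zero D _ _
    | succ k => exact (CWmap_prj_eq_zero D).1 ((Submodule.mem_bot _).1 (hz k))
  | succ r =>
    have hb : ∀ k, ∃ b, z.1 - dW D r 𝔉 b ∈ CFW D 𝔉 (r + 1) (k + 1) := fun k => by
      obtain ⟨b, hb⟩ := hz k
      obtain ⟨b', rfl⟩ := exists_prjW_eq D hL h𝔉 haff r k b
      refine ⟨b', ?_⟩
      rw [← CWmap_prj_eq_zero, map_sub, ← dW_CWmap, hb]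
      exact sub_self _
    choose b hb using hb
    obtain ⟨c, hc⟩ := (hD r).bound
    have hd : ∀ k, dW D r 𝔉 (b (k + 1) - b k) ∈ CFW D 𝔉 (r + 1) (k + 1) := fun k => by
      rw [map_sub, show dW D r 𝔉 (b (k + 1)) - dW D r 𝔉 (b k) =
        (z.1 - dW D r 𝔉 (b k)) - (z.1 - dW D r 𝔉 (b (k + 1))) by abel]
      exact sub_mem (hb k) (CFW_anti D (r + 1) (Nat.le_succ _) (hb (k + 1)))
    choose b' hb' hdb' using fun k => hc (k + 1) (b (k + 1) - b k) (hd k)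
    let β : ℕ → CW D r 𝔉 := fun n => b' (n + c)
    obtain ⟨s, hs⟩ := CFW_sum D hL h𝔉 r β fun n => CFW_anti D r (by omega) (hb' (n + c))
    refine ⟨b c + s, ?_⟩
    have key : ∀ n, dW D r 𝔉 (b c + ∑ l ∈ Finset.range n, β l) = dW D r 𝔉 (b (n + c)) := by
      intro n
      induction n with
      | zero => rw [Finset.sum_range_zero, add_zero, Nat.zero_add]
      | succ n ih =>
        rw [Finset.sum_range_succ, ← add_assoc, map_add, ih, show n + 1 + c = n + c + 1 by omega]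
        show dW D r 𝔉 (b (n + c)) + dW D r 𝔉 (b' (n + c)) = _
        rw [hdb', map_sub]
        abel
    refine (sub_eq_zero.1 (CFW_sep D hL h𝔉 (r + 1) _ fun n => ?_)).symm
    show z.1 - dW D r 𝔉 (b c + s) ∈ _
    rw [show z.1 - dW D r 𝔉 (b c + s) = (z.1 - dW D r 𝔉 (b (n + c))) -
      dW D r 𝔉 (s - ∑ l ∈ Finset.range n, β l) by
        rw [← key n, map_add, map_add, map_sub]; abel]
    exact sub_mem (CFW_anti D (r + 1) (by omega) (hb (n + c))) (dW_mem_CFW D r n (hs n))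

include hL h𝔉 haff in
/-- Classes of a level reaching far down come from classes of the module. -/
theorem exists_class_eqW (q : ℕ) (hD : Deep D 𝔉 J q) : ∃ c, ∀ m k, m + c ≤ k → ∀ (t : lvl 𝔉 k ⟶ lvl 𝔉 m),
    prj 𝔉 k ≫ t = prj 𝔉 m → ∀ y : HW D q (lvl 𝔉 k), ∃ x : HW D q 𝔉,
      HWmap D q t y = HWmap D q (prj 𝔉 m) x := by
  obtain ⟨c, hc⟩ := hD.bound
  refine ⟨c, fun m k hmk t ht y => ?_⟩
  obtain ⟨w, rfl⟩ := cW_surjective D y
  obtain ⟨z, hz⟩ := exists_prjW_eq D hL h𝔉 haff q k w.1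
  have hd : dW D q 𝔉 z ∈ CFW D 𝔉 (q + 1) (k + 1) := by
    rw [← CWmap_prj_eq_zero, ← dW_CWmap, hz]
    exact w.2
  obtain ⟨z', hz', hdz'⟩ := hc (k + 1) z hd
  have hcyc : dW D q 𝔉 (z - z') = 0 := by rw [map_sub, hdz', sub_self]
  refine ⟨cW D (zkW D _ hcyc), ?_⟩
  rw [HWmap_cW, HWmap_cW]
  refine congrArg (cW D) (Subtype.ext ?_)
  show CWmap D q t w.1 = CWmap D q (prj 𝔉 m) (z - z')
  rw [map_sub, show CWmap D q (prj 𝔉 m) z' = 0 from
    (CWmap_prj_eq_zero D).2 (CFW_anti D q (by omega) hz'), sub_zero, ← hz]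
  exact ((CWmap_comp D q (prj 𝔉 k) t z).symm.trans (congrArg (fun g => CWmap D q g z) ht))

end Cochains

section Finite

/-- A module with a filtration generated in bounded degrees and finite quotients is finite. -/
theorem finite_of_filt {A : Type u} [CommRing A] [IsNoetherianRing A] (J : Ideal A) [IsAdicComplete J A] {H : Type u}
    [AddCommGroup H] [Module A H] (F : ℕ → Submodule A H) (hanti : Antitone F)
    (hJ : ∀ k n, J ^ n • F k ≤ F (k + n)) {N : ℕ} (hN : ∀ n, F (N + n) ≤ J ^ n • F N)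
    (hsep : ∀ x, (∀ k, x ∈ F (k + 1)) → x = 0) (hfin : ∀ k, Module.Finite A (H ⧸ F (k + 1))) :
    Module.Finite A H := by
  haveI : IsHausdorff J ↥(F (N + 1)) := ⟨fun x hx => Subtype.ext (hsep x.1 fun k => by
    have h1 : x ∈ J ^ (k + 1) • (⊤ : Submodule A ↥(F (N + 1))) := by simpa using SModEq.sub_mem.1 (hx (k + 1))
    exact hanti (by omega) (hJ (N + 1) (k + 1) ((Submodule.mem_smul_top_iff _ _ x).1 h1)))⟩
  haveI : Module.Finite A (↥(F (N + 1)) ⧸ (J • ⊤ : Submodule A ↥(F (N + 1)))) := by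
    haveI : IsNoetherian A (H ⧸ F (N + 1 + 1)) := by
      haveI := hfin (N + 1)
      exact isNoetherian_of_isNoetherianRing_of_finite A _
    refine Module.Finite.of_injective ((J • ⊤ : Submodule A ↥(F (N + 1))).liftQ
      ((F (N + 1 + 1)).mkQ.comp (F (N + 1)).subtype) fun x hx => ?_) ?_
    · refine (Submodule.Quotient.mk_eq_zero _).2 (hJ (N + 1) 1 ?_)
      rw [pow_one]
      exact (Submodule.mem_smul_top_iff _ _ x).1 hx
    · rw [← LinearMap.ker_eq_bot, Submodule.ker_liftQ_eq_bot]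
      intro x hx
      refine (Submodule.mem_smul_top_iff _ _ x).2 ?_
      have h1 : x.1 ∈ F (N + 1 + 1) := (Submodule.Quotient.mk_eq_zero _).1 hx
      have h3 : x.1 ∈ J • (J ^ 1 • F N) := by
        rw [← Submodule.mul_smul, ← pow_succ']
        exact hN 2 h1
      exact Submodule.smul_mono le_rfl (hJ N 1) h3
  haveI := Groth.Agent.AdicLemmas.module_finite_of_quotient_finite J ↥(F (N + 1)) inferInstance
  haveI := hfin N
  exact Module.Finite.of_submodule_quotient (F (N + 1))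

variable {A : Type u} [CommRing A] [IsNoetherianRing A] {𝔛 : FSch.Sys.{u}} {h : 𝔛.IsFormal} (D : Cv A h)
  (hL : 𝔛.IsLocNoethFormal) {𝔉 : FSch.ModF 𝔛 h} (h𝔉 : FSch.IsCohF 𝔛 h 𝔉)
  (haff : ∀ (m : ℕ) (i : Fin (m + 1) → D.ι), IsAffineOpen (inter D.U i)) {J : Ideal A} [IsAdicComplete J A]

lemma FH_anti (q : ℕ) : Antitone (FH D 𝔉 q) := fun _ _ hjk _ hx => by
  obtain ⟨z, hz, rfl⟩ := hx
  exact ⟨z, CFW_anti D q hjk hz, rfl⟩

include hL h𝔉 haff in
/-- Finiteness of the Čech cohomology and its separation from the levels. -/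
theorem finite_HW (q : ℕ) (hD : ∀ r, Deep D 𝔉 J r) (hlvl : ∀ k, Module.Finite A (HW D q (lvl 𝔉 k))) :
    Module.Finite A (HW D q 𝔉) ∧
      ∀ e, ∃ m, LinearMap.ker (HWmap D q (prj 𝔉 m)) ≤ J ^ e • (⊤ : Submodule A (HW D q 𝔉)) := by
  haveI := hlvl
  obtain ⟨N, hN⟩ := exists_FH_le D q (hD q)
  have hfin : ∀ k, Module.Finite A (HW D q 𝔉 ⧸ FH D 𝔉 q (k + 1)) := fun k => by
    haveI : IsNoetherian A (HW D q (lvl 𝔉 k)) := isNoetherian_of_isNoetherianRing_of_finite A _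
    refine Module.Finite.of_injective ((FH D 𝔉 q (k + 1)).liftQ (HWmap D q (prj 𝔉 k))
      fun x hx => (mem_FH_iff D hL h𝔉 haff q k x).1 hx) ?_
    rw [← LinearMap.ker_eq_bot, Submodule.ker_liftQ_eq_bot]
    exact fun x hx => (mem_FH_iff D hL h𝔉 haff q k x).2 hx
  refine ⟨finite_of_filt J (FH D 𝔉 q) (FH_anti D q) (fun k n => pow_smul_FH_le D q (hD q) k n) hN
    (fun x hx => eq_zero_of_levelsW D hL h𝔉 haff q hD x fun k => (mem_FH_iff D hL h𝔉 haff q k x).1 (hx k)) hfin,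
    fun e => ⟨N + e, fun x hx => ?_⟩⟩
  exact Submodule.smul_mono le_rfl le_top
    (hN e (FH_anti D q (Nat.le_succ _) ((mem_FH_iff D hL h𝔉 haff q (N + e) x).2 (LinearMap.mem_ker.1 hx))))

end Finite

end Groth.Agent.FRel
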