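import Groth.Agent.FComplLib.IndQC
import Groth.Agent.FComplLib.Sheaf
import Groth.Agent.FComplLib.TorsLevel
import Groth.Agent.S13342

/-!
# Restriction of modules to an open of a formal scheme
-/

set_option autoImplicit false
set_option linter.style.haveILetI false
set_option linter.unusedSectionVars false
set_option backward.isDefEq.respectTransparency false
set_option backward.isDefEq.respectTransparency.types false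
set_option maxHeartbeats 1000000

universe u

open CategoryTheory CategoryTheory.Limits AlgebraicGeometry TopologicalSpace Opposite

noncomputable section

namespace Groth.Agent.FRel

open Groth.Agent.FCompl

variable (𝔛 : FSch.Sys.{u}) (h : 𝔛.IsFormal) (W : (𝔛.X 0).Opens)

/-- The system on an open. -/
abbrev 𝔛r : FSch.Sys.{u} := 𝔛.restrictOpen h W

/-- The system on an open is formal. -/
theorem hr : (𝔛r 𝔛 h W).IsFormal := (S13342.result 𝔛 h W).1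

/-- The inclusion on the space. -/
abbrev jo : (𝔛r 𝔛 h W).X 0 ⟶ 𝔛.X 0 := (𝔛.lvU h 0 W).ι

/-- The open of the whole space of an open. -/
abbrev img (U : ((𝔛r 𝔛 h W).X 0).Opens) : (𝔛.X 0).Opens := (jo 𝔛 h W) ''ᵁ U

variable {U U' : ((𝔛r 𝔛 h W).X 0).Opens}

lemma img_mono (hU : U' ≤ U) : img 𝔛 h W U' ≤ img 𝔛 h W U := Scheme.Hom.image_mono _ hU

lemma preimage_img (U : ((𝔛r 𝔛 h W).X 0).Opens) : (jo 𝔛 h W) ⁻¹ᵁ img 𝔛 h W U = U :=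
  Scheme.Hom.preimage_image_eq _ U

lemma lvU_img (n : ℕ) (U : ((𝔛r 𝔛 h W).X 0).Opens) :
    (𝔛.lvU h n W).ι ''ᵁ ((𝔛r 𝔛 h W).lvU (hr 𝔛 h W) n U) = 𝔛.lvU h n (img 𝔛 h W U) := by
  haveI := FSch.Sys.toX_isClosedImmersion 𝔛 h n
  have comm : ∀ z, (𝔛.lvU h n W).ι ((𝔛r 𝔛 h W).toX n z) = 𝔛.toX n (jo 𝔛 h W z) := fun z =>
    congr($(FSch.Hom.toX_comm (𝔛.restrictOpenι h W) n).base z)
  have memX : ∀ z, 𝔛.toX n z ∈ 𝔛.lvU h n (img 𝔛 h W U) ↔ z ∈ img 𝔛 h W U := fun z =>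
    SetLike.ext_iff.1 (toX_lvU (n := n) (h := h) (img 𝔛 h W U)) z
  have memR : ∀ z, (𝔛r 𝔛 h W).toX n z ∈ (𝔛r 𝔛 h W).lvU (hr 𝔛 h W) n U ↔ z ∈ U := fun z =>
    SetLike.ext_iff.1 (toX_lvU (n := n) (h := hr 𝔛 h W) U) z
  ext x
  constructor
  · rintro ⟨y, hy, rfl⟩
    obtain ⟨z, rfl⟩ := FSch.Sys.toX_surjective (𝔛r 𝔛 h W) (hr 𝔛 h W) n y
    exact (congrArg (· ∈ 𝔛.lvU h n (img 𝔛 h W U)) (comm z)).mpr ((memX _).2 ⟨z, (memR z).1 hy, rfl⟩)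
  · intro hx
    obtain ⟨z, rfl⟩ := FSch.Sys.toX_surjective 𝔛 h n x
    obtain ⟨z', hz', rfl⟩ := (memX z).1 hx
    exact ⟨(𝔛r 𝔛 h W).toX n z', (memR z').2 hz', comm z'⟩

lemma lvU_preimage_img (n : ℕ) (U : ((𝔛r 𝔛 h W).X 0).Opens) :
    (𝔛.lvU h n W).ι ⁻¹ᵁ 𝔛.lvU h n (img 𝔛 h W U) = (𝔛r 𝔛 h W).lvU (hr 𝔛 h W) n U := by
  rw [← lvU_img]
  exact Scheme.Hom.preimage_image_eq _ _

/-- Restriction on levels. -/
def lJ (n : ℕ) (U : ((𝔛r 𝔛 h W).X 0).Opens) : LR 𝔛 h (img 𝔛 h W U) n →+* LR (𝔛r 𝔛 h W) (hr 𝔛 h W) U n :=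
  ((𝔛.lvU h n W).ι.appLE (𝔛.lvU h n (img 𝔛 h W U)) ((𝔛r 𝔛 h W).lvU (hr 𝔛 h W) n U)
    (lvU_preimage_img 𝔛 h W n U).ge).hom

lemma lJ_bijective (n : ℕ) (U : ((𝔛r 𝔛 h W).X 0).Opens) : Function.Bijective (lJ 𝔛 h W n U) := by
  haveI : IsIso ((𝔛.lvU h n W).ι.app (𝔛.lvU h n (img 𝔛 h W U))) := by
    refine Scheme.Hom.isIso_app _ _ ?_
    rw [← lvU_img]
    exact Scheme.Hom.image_le_opensRange _ _
  haveI : IsIso ((𝔛.lvU h n W).ι.appLE (𝔛.lvU h n (img 𝔛 h W U)) ((𝔛r 𝔛 h W).lvU (hr 𝔛 h W) n U)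
      (lvU_preimage_img 𝔛 h W n U).ge) := by
    rw [Scheme.Hom.appLE]
    haveI : IsIso (homOfLE (lvU_preimage_img 𝔛 h W n U).ge) :=
      ⟨homOfLE (lvU_preimage_img 𝔛 h W n U).le, Subsingleton.elim _ _, Subsingleton.elim _ _⟩
    infer_instance
  exact ConcreteCategory.bijective_of_isIso ((𝔛.lvU h n W).ι.appLE (𝔛.lvU h n (img 𝔛 h W U))
    ((𝔛r 𝔛 h W).lvU (hr 𝔛 h W) n U) (lvU_preimage_img 𝔛 h W n U).ge)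

lemma tr_lJ (n : ℕ) (U : ((𝔛r 𝔛 h W).X 0).Opens) (x : LR 𝔛 h (img 𝔛 h W U) (n + 1)) :
    tr (𝔛r 𝔛 h W) (hr 𝔛 h W) U n (lJ 𝔛 h W (n + 1) U x) = lJ 𝔛 h W n U (tr 𝔛 h (img 𝔛 h W U) n x) := by
  have e3 : (𝔛r 𝔛 h W).lvU (hr 𝔛 h W) n U ≤ ((𝔛.lvU h n W).ι ≫ 𝔛.ι n) ⁻¹ᵁ 𝔛.lvU h (n + 1) (img 𝔛 h W U) :=
    (lvU_preimage_img 𝔛 h W n U).ge.trans (Scheme.Hom.preimage_mono _ (𝔛.lvU_le h n _))
  exact congr($((FSch.appLE_comp_appLE_of_eq ((𝔛r 𝔛 h W).ι n) (𝔛.lvU h (n + 1) W).ι _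
    ((𝔛.restrictOpenι h W : FSch.Hom _ _).comm n).symm _ _ _ _ _ e3).trans
      (FSch.appLE_comp_appLE_of_eq (𝔛.lvU h n W).ι (𝔛.ι n) _ rfl _ _ _ _ _ e3).symm) x)

lemma rsL_lJ (hU : U' ≤ U) (n : ℕ) (x : LR 𝔛 h (img 𝔛 h W U) n) :
    rsL (𝔛r 𝔛 h W) (hr 𝔛 h W) hU n (lJ 𝔛 h W n U x) = lJ 𝔛 h W n U' (rsL 𝔛 h (img_mono 𝔛 h W hU) n x) := by
  refine (congr($(Scheme.Hom.appLE_map (𝔛.lvU h n W).ι (lvU_preimage_img 𝔛 h W n U).ge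
    (homOfLE (lvU_mono _ _ hU n)).op) x)).trans ?_
  exact congr($(Scheme.Hom.map_appLE (𝔛.lvU h n W).ι (lvU_preimage_img 𝔛 h W n U').ge
    (homOfLE (lvU_mono _ _ (img_mono 𝔛 h W hU) n)).op) x).symm

/-- Restriction of functions. -/
def jJ (U : ((𝔛r 𝔛 h W).X 0).Opens) : OR 𝔛 h (img 𝔛 h W U) →+* OR (𝔛r 𝔛 h W) (hr 𝔛 h W) U :=
  (rsO (𝔛r 𝔛 h W) (hr 𝔛 h W) (U := (jo 𝔛 h W) ⁻¹ᵁ img 𝔛 h W U) (preimage_img 𝔛 h W U).ge).comp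
    ((FSch.Hom.sharp (𝔛.restrictOpenι h W) (hr 𝔛 h W) h).hom.app (op (img 𝔛 h W U))).hom

lemma pr_jJ (n : ℕ) (U : ((𝔛r 𝔛 h W).X 0).Opens) (x : OR 𝔛 h (img 𝔛 h W U)) :
    pr (𝔛r 𝔛 h W) (hr 𝔛 h W) U n (jJ 𝔛 h W U x) = lJ 𝔛 h W n U (pr 𝔛 h (img 𝔛 h W U) n x) := by
  show pr (𝔛r 𝔛 h W) (hr 𝔛 h W) U n (rsO (𝔛r 𝔛 h W) (hr 𝔛 h W) _ _) = _
  rw [pr_rsO]
  have e := congr($(FSch.Hom.sharp_proj (𝔛.restrictOpenι h W) (hr 𝔛 h W) h n).hom.app (op (img 𝔛 h W U)) x)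
  refine (congrArg (rsL (𝔛r 𝔛 h W) (hr 𝔛 h W) (U := (jo 𝔛 h W) ⁻¹ᵁ img 𝔛 h W U) (preimage_img 𝔛 h W U).ge n) e).trans ?_
  exact congr($(Scheme.Hom.appLE_map (𝔛.lvU h n W).ι
    (FSch.Hom.lvU_preimage (𝔛.restrictOpenι h W) (hr 𝔛 h W) h n (img 𝔛 h W U)).ge
    (homOfLE (lvU_mono _ _ (preimage_img 𝔛 h W U).ge n)).op) (pr 𝔛 h (img 𝔛 h W U) n x))

lemma jJ_bijective (U : ((𝔛r 𝔛 h W).X 0).Opens) : Function.Bijective (jJ 𝔛 h W U) := by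
  refine ⟨fun x y e => osh_ext fun n => (lJ_bijective 𝔛 h W n U).1 ?_, fun y => ?_⟩
  · rw [← pr_jJ, ← pr_jJ, e]
  · choose b hb using fun n => (lJ_bijective 𝔛 h W n U).2 (pr (𝔛r 𝔛 h W) (hr 𝔛 h W) U n y)
    obtain ⟨x, hx⟩ := osh_lift (U := img 𝔛 h W U) b fun n => (lJ_bijective 𝔛 h W n U).1 (by
      rw [← tr_lJ, hb, hb, tr_pr])
    exact ⟨x, osh_ext fun n => by rw [pr_jJ, hx, hb]⟩

lemma rsO_jJ (hU : U' ≤ U) (x : OR 𝔛 h (img 𝔛 h W U)) :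
    rsO (𝔛r 𝔛 h W) (hr 𝔛 h W) hU (jJ 𝔛 h W U x) = jJ 𝔛 h W U' (rsO 𝔛 h (img_mono 𝔛 h W hU) x) :=
  osh_ext fun n => by rw [pr_rsO, pr_jJ, rsL_lJ, pr_jJ, pr_rsO]

/-- Functions on an open. -/
def jE (U : ((𝔛r 𝔛 h W).X 0).Opens) : OR 𝔛 h (img 𝔛 h W U) ≃+* OR (𝔛r 𝔛 h W) (hr 𝔛 h W) U :=
  RingEquiv.ofBijective _ (jJ_bijective 𝔛 h W U)

lemma jE_apply (U : ((𝔛r 𝔛 h W).X 0).Opens) (x : OR 𝔛 h (img 𝔛 h W U)) : jE 𝔛 h W U x = jJ 𝔛 h W U x := rfl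

lemma II_jE (U : ((𝔛r 𝔛 h W).X 0).Opens) :
    (II 𝔛 h (img 𝔛 h W U)).map (jE 𝔛 h W U).toRingHom = II (𝔛r 𝔛 h W) (hr 𝔛 h W) U := by
  ext y
  obtain ⟨x, rfl⟩ := (jE 𝔛 h W U).surjective y
  show (jE 𝔛 h W U).toRingHom x ∈ _ ↔ _
  rw [Ideal.mem_map_iff_of_surjective (jE 𝔛 h W U).toRingHom (jE 𝔛 h W U).surjective]
  constructor
  · rintro ⟨z, hz, e⟩
    show pr _ _ U 0 ((jE 𝔛 h W U).toRingHom x) = 0
    rw [← e]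
    show pr _ _ U 0 (jJ 𝔛 h W U z) = 0
    rw [pr_jJ, RingHom.mem_ker.1 hz, map_zero]
  · intro hx
    refine ⟨x, RingHom.mem_ker.2 ((lJ_bijective 𝔛 h W 0 U).1 ?_), rfl⟩
    rw [map_zero, ← pr_jJ]
    exact hx

/-- Functions on the open, as a map of sheaves. -/
def jα : ((𝔛r 𝔛 h W).Osh (hr 𝔛 h W)).obj ⟶ (jo 𝔛 h W).opensFunctor.op ⋙ (𝔛.Osh h).obj where
  app U := CommRingCat.ofHom (jE 𝔛 h W U.unop).symm.toRingHom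
  naturality U U' i := by
    refine CommRingCat.hom_ext (RingHom.ext fun y => (jE 𝔛 h W U'.unop).injective ?_)
    show jE 𝔛 h W U'.unop ((jE 𝔛 h W U'.unop).symm (rsO (𝔛r 𝔛 h W) (hr 𝔛 h W) (leOfHom i.unop) y)) =
      jE 𝔛 h W U'.unop (rsO 𝔛 h (img_mono 𝔛 h W (leOfHom i.unop)) ((jE 𝔛 h W U.unop).symm y))
    rw [RingEquiv.apply_symm_apply, jE_apply, ← rsO_jJ, ← jE_apply, RingEquiv.apply_symm_apply]

/-- Restriction of modules. -/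
def Rst : FSch.ModF 𝔛 h ⥤ FSch.ModF (𝔛r 𝔛 h W) (hr 𝔛 h W) :=
  SheafOfModules.pushforward (F := (jo 𝔛 h W).opensFunctor)
    ⟨Functor.whiskerRight (jα 𝔛 h W) (forget₂ CommRingCat RingCat)⟩

variable {𝔛 h}

/-- Sections of a restriction. -/
def rsec (M : FSch.ModF 𝔛 h) (U : ((𝔛r 𝔛 h W).X 0).Opens) :
    M.val.obj (op (img 𝔛 h W U)) ≃+ ((Rst 𝔛 h W).obj M).val.obj (op U) where
  toFun x := x
  invFun x := x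
  left_inv _ := rfl
  right_inv _ := rfl
  map_add' _ _ := rfl

lemma rsec_smul (M : FSch.ModF 𝔛 h) (U : ((𝔛r 𝔛 h W).X 0).Opens) (a : OR 𝔛 h (img 𝔛 h W U))
    (x : M.val.obj (op (img 𝔛 h W U))) : rsec W M U (a • x) = jE 𝔛 h W U a • rsec W M U x := by
  show a • x = ((jE 𝔛 h W U).symm (jE 𝔛 h W U a)) • x
  rw [RingEquiv.symm_apply_apply]

lemma rsec_mres (M : FSch.ModF 𝔛 h) (hU : U' ≤ U) (x : M.val.obj (op (img 𝔛 h W U))) :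
    FPLocal.mres ((Rst 𝔛 h W).obj M) (homOfLE hU).op (rsec W M U x) =
      rsec W M U' (FPLocal.mres M (homOfLE (img_mono 𝔛 h W hU)).op x) := rfl

lemma sieve_img {U : ((𝔛r 𝔛 h W).X 0).Opens} (S : Sieve (img 𝔛 h W U))
    (hS : S ∈ Opens.grothendieckTopology (𝔛.X 0) (img 𝔛 h W U)) :
    Sieve.functorPullback (jo 𝔛 h W).opensFunctor S ∈ Opens.grothendieckTopology ((𝔛r 𝔛 h W).X 0) U := by
  intro x hx
  obtain ⟨Z, l, hl, hxZ⟩ := hS (jo 𝔛 h W x) ⟨x, hx, rfl⟩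
  refine ⟨U ⊓ (jo 𝔛 h W) ⁻¹ᵁ Z, homOfLE inf_le_left, ?_, hx, hxZ⟩
  have hle : img 𝔛 h W (U ⊓ (jo 𝔛 h W) ⁻¹ᵁ Z) ≤ Z := by
    rintro _ ⟨y, hy, rfl⟩
    exact hy.2
  show S.arrows _
  exact (congrArg (fun g => S.arrows g) (Subsingleton.elim (homOfLE hle ≫ l)
    ((jo 𝔛 h W).opensFunctor.map (homOfLE (inf_le_left : U ⊓ (jo 𝔛 h W) ⁻¹ᵁ Z ≤ U))))).mp
    (S.downward_closed hl (homOfLE hle))

lemma hasRels_Rst (M : FSch.ModF 𝔛 h) {V : ((𝔛r 𝔛 h W).X 0).Opens} (hM : FPLocal.HasRels M (img 𝔛 h W V)) :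
    FPLocal.HasRels ((Rst 𝔛 h W).obj M) V := by
  obtain ⟨I, K, _, _, s, c, hs, h0, hc⟩ := hM
  refine ⟨I, K, inferInstance, inferInstance, fun i => rsec W M V (s i), fun k i => jE 𝔛 h W V (c k i), ?_, ?_, ?_⟩
  · intro U g m
    obtain ⟨S, hS, hS'⟩ := hs ((jo 𝔛 h W).opensFunctor.map g) ((rsec W M U).symm m)
    refine ⟨_, sieve_img W S hS, fun Z l hl => ?_⟩
    obtain ⟨a, ha⟩ := hS' _ hl
    refine ⟨fun i => jE 𝔛 h W Z (a i), ?_⟩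
    refine Eq.trans ?_ (congrArg (rsec W M Z) ha)
    rw [map_sum]
    refine Finset.sum_congr rfl fun i _ => ?_
    exact (rsec_smul W M Z (a i) _).symm
  · intro k
    refine Eq.trans ?_ ((congrArg (rsec W M V) (h0 k)).trans (map_zero _))
    rw [map_sum]
    exact Finset.sum_congr rfl fun i _ => (rsec_smul W M V _ _).symm
  · intro U g d hd
    obtain ⟨S, hS, hS'⟩ := hc ((jo 𝔛 h W).opensFunctor.map g) (fun i => (jE 𝔛 h W U).symm (d i)) hd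
    refine ⟨_, sieve_img W S hS, fun Z l hl => ?_⟩
    obtain ⟨e, he⟩ := hS' _ hl
    refine ⟨fun k => jE 𝔛 h W Z (e k), fun i => ?_⟩
    have he' := congrArg (jE 𝔛 h W Z) (he i)
    rw [map_sum] at he'
    refine Eq.trans (Finset.sum_congr rfl fun k _ => ?_) (he'.trans ?_)
    · refine Eq.trans ?_ (map_mul (jE 𝔛 h W Z) (e k) _).symm
      exact congrArg (jE 𝔛 h W Z (e k) * ·) (rsO_jJ 𝔛 h W (leOfHom (l ≫ g)) (c k i))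
    · refine (rsO_jJ 𝔛 h W (leOfHom l) ((jE 𝔛 h W U).symm (d i))).symm.trans ?_
      exact congrArg (rsO _ _ (leOfHom l)) ((jE 𝔛 h W U).apply_symm_apply (d i))

theorem isCohF_Rst (hL : 𝔛.IsLocNoethFormal) {M : FSch.ModF 𝔛 h} (hM : FSch.IsCohF 𝔛 h M) :
    FSch.IsCohF (𝔛r 𝔛 h W) (hr 𝔛 h W) ((Rst 𝔛 h W).obj M) :=
  isCohF_of_affine _ fun V hV => hasRels_Rst W M (hasRels_affine hL hM (hV.image_of_isOpenImmersion (jo 𝔛 h W)))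

end Groth.Agent.FRel
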